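import Mathlib
import Cfsg.Agent.JankoThree.InvData

/-! Kernel checks for the involutions of `J₃`. -/

set_option autoImplicit false

namespace CfsgLib.JankoThree

/-- the involution, packed -/
def tPk : List ℕ := k1M 4

theorem qTbl_check : checkGrp qTbl = true ∧ checkMul qTbl qMul = true ∧ qTbl.els.length = 32 ∧
    eqM (qTbl.els.getD qZ onePk) tPk = true ∧ qZ < 32 := by decide +kernel

theorem hTbl_check : checkGrp hTbl = true ∧ checkMul hTbl hMul = true ∧
    hTbl.els.length = 60 ∧ hTbl.gens.length = 2 := by decide +kernel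

theorem pTbl_check : checkGrp pTbl = true ∧ pTbl.els.length = 128 := by decide +kernel

theorem t_check : eqM (mul tPk tPk) onePk = true ∧
    Nat.beq (mKey tPk) (mKey onePk) = false := by decide +kernel

theorem qh_commute : (List.range 32).all (fun a =>
      eqM (mul (qTbl.els.getD a onePk) tPk) (mul tPk (qTbl.els.getD a onePk))) = true ∧
    (List.range 60).all (fun b =>
      eqM (mul (hTbl.els.getD b onePk) tPk) (mul tPk (hTbl.els.getD b onePk))) = true := by
  decide +kernel

theorem hq_normal : (List.range 2).all (fun g => (List.range 32).all fun a =>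
    Nat.blt ((hqTab.getD g []).getD a 32) 32 &&
      eqM (mul (hTbl.els.getD (hTbl.gi.getD g 0) onePk) (qTbl.els.getD a onePk))
        (mul (qTbl.els.getD ((hqTab.getD g []).getD a 32) onePk)
          (hTbl.els.getD (hTbl.gi.getD g 0) onePk))) = true := by decide +kernel

theorem qh_apart : (List.range 32).all (fun a => (List.range 60).all fun b => (List.range 3).all
    fun k => (Nat.beq a 0 && Nat.beq b 0 && Nat.beq k 0) ||
      !Nat.beq (mKey (qTbl.els.getD a onePk))
        (mKey (mul (powPk (genPk.getD 0 onePk) k) (hTbl.els.getD b onePk)))) = true := by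
  decide +kernel

/-- product in the normal subgroup -/
def qm (a b : ℕ) : ℕ := (qMul.getD a []).getD b 32

theorem q_center : (List.range 32).all (fun a =>
    ((List.range 32).all fun b => Nat.beq (qm a b) (qm b a)) ==
      (Nat.beq a 0 || Nat.beq a qZ)) = true := by decide +kernel

theorem q_comm : (List.range 32).all (fun a => (List.range 32).all fun b =>
    Nat.beq (qm a b) (qm b a) || Nat.beq (qm a b) (qm qZ (qm b a))) = true ∧
    (List.range 32).all (fun a => Nat.beq (qm a a) 0 || Nat.beq (qm a a) qZ) = true ∧
    (!Nat.beq (qm 2 3) (qm 3 2) || !Nat.beq (qm 2 4) (qm 4 2)) = true := by decide +kernel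

theorem q_rank : (List.range 32).all (fun a => !Nat.beq (qm a a) 0 ||
    (List.range 32).all fun b => !Nat.beq (qm b b) 0 || !Nat.beq (qm a b) (qm b a) ||
      (List.range 32).all fun c => !Nat.beq (qm c c) 0 || !Nat.beq (qm a c) (qm c a) ||
        !Nat.beq (qm b c) (qm c b) || Nat.beq a 0 || Nat.beq b 0 || Nat.beq b a ||
        Nat.beq c 0 || Nat.beq c a || Nat.beq c b || Nat.beq c (qm a b)) = true := by
  decide +kernel

/-- the image of a point under an element of the complement -/
def hI (a : ℕ) (i : Fin 5) : Fin 5 :=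
  ⟨(hImg.getD a []).getD i 0 % 5, Nat.mod_lt _ (by norm_num)⟩

theorem h_perm : ∀ a : Fin 60, (∀ i, hI a (hI (hInv.getD a 0) i) = i) ∧
    (∀ i, hI (hInv.getD a 0) (hI a i) = i) ∧ ((∀ i, hI a i = i) → a = 0) := by decide +kernel

theorem h_hom : ∀ a b : Fin 60, ∀ i, hI ((hMul.getD a []).getD b 60) i = hI a (hI b i) := by
  decide +kernel

theorem p_conj : (List.range 128).all (fun i => Nat.beq i 0 ||
    !eqM (mul (pTbl.els.getD i onePk) (pTbl.els.getD i onePk)) onePk ||
      (eqM (evW (pConjW.getD i [])) (pConj.getD i onePk) &&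
        eqM (mul (pConj.getD i onePk) (pTbl.els.getD i onePk))
          (mul tPk (pConj.getD i onePk)))) = true := by decide +kernel

theorem p_sq : (List.range 128).all (fun i =>
    eqM (mul (pTbl.els.getD i onePk) (pTbl.els.getD i onePk)) onePk ||
      !Nat.beq (mKey (mul (pTbl.els.getD i onePk) (pTbl.els.getD i onePk))) (mKey onePk)) = true := by
  decide +kernel

theorem tConj_check : (List.range 648).all (fun k =>
    Nat.blt (tConjIx.getD k 9) 9 && Nat.blt (tConj.getD (tConjIx.getD k 9) 648) 648 &&
      (tConjCls.getD (tConjIx.getD k 9) []).any (Nat.beq k) &&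
      eqM (mul tPk (k1M k)) (mul (k1M k) (k1M (tConj.getD (tConjIx.getD k 9) 648)))) = true := by
  decide +kernel

theorem fix_lines : ptReps.all (fun p => (List.range 9).all fun u =>
    !Nat.beq (canon (mv (k1M (tConj.getD u 648)) p.1)) p.1 ||
      (tConjCls.getD u []).all fun k => fixLines.any (Nat.beq (canon (mv (k1M k) p.1)))) = true ∧
    fixLines.length = 136 := by decide +kernel

theorem stabInv_check : stabInv.length = 153 ∧
    stabInv.all (fun e => Nat.blt e.1 10 && Nat.blt e.2 648 &&
      eqM (mul (mul (repPk.getD e.1 onePk) (k1M e.2)) (mul (repPk.getD e.1 onePk) (k1M e.2)))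
        onePk &&
      !Nat.beq (mKey (mul (repPk.getD e.1 onePk) (k1M e.2))) (mKey onePk)) = true ∧
    distinct (stabInv.map fun e => 648 * e.1 + e.2) = true := by decide +kernel

end CfsgLib.JankoThree
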