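import Mathlib
import Cfsg.Agent.JankoThree.InvCheck
import Cfsg.Agent.PGroup.Extraspecial
import Cfsg.Prelude.Def_Transfer

/-! Involutions of `J₃` and their centralisers. -/

set_option autoImplicit false

namespace CfsgLib.JankoThree

open Cfsg
open scoped Matrix

attribute [local instance] lineAction

variable {F : Type*} [Field F] [Fintype F] {ω : F}
variable (hF : Fintype.card F = 4) (hω : ω ^ 2 + ω + 1 = 0)
include hF hω

theorem kE_mem_threeJ3 (t : ℕ) : kE ω t ∈ Spor.threeJ3 F ω :=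
  stabGrp_le hF hω (monoGrp_le hF hω (kE_mem_mono hF hω t))

/-- the chosen involution -/
theorem exists_t : ∃ t : Spor.threeJ3 F ω,
    (t : GL Spor.F9 F) = kE ω 4 ∧ Rep ω (t : GL Spor.F9 F) tPk ∧ t * t = 1 ∧ t ≠ 1 := by
  have hr : Rep ω (kE ω 4) tPk := rep_kE hF hω (by norm_num)
  refine ⟨⟨kE ω 4, kE_mem_threeJ3 hF hω 4⟩, rfl, hr, Subtype.ext ?_, fun e => ?_⟩
  · exact (hr.mul (two_eq_zero hF) hω hr).eq (by rw [eqM_eq t_check.1]; exact Rep.one)
  · have e' : kE ω 4 = 1 := congrArg Subtype.val e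
    have := mKey_eq hF hω hr.1 (show onePk.length = 9 from rfl)
      (by rw [← hr.2, e', Units.val_one, toMat_onePk])
    have h := t_check.2
    rw [this, Nat.beq_refl] at h
    exact Bool.noConfusion h

theorem ne_one_of_key {x : GL Spor.F9 F} {M : List ℕ} (hr : Rep ω x M)
    (h : (!Nat.beq (mKey M) (mKey onePk)) = true) : x ≠ 1 := fun e => by
  have := mKey_eq hF hω hr.1 (show onePk.length = 9 from rfl)
    (by rw [← hr.2, e, Units.val_one, toMat_onePk])
  rw [this, Nat.beq_refl] at h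
  exact Bool.noConfusion h

theorem conj_in_sylow {t : Spor.threeJ3 F ω} (ht : Rep ω (t : GL Spor.F9 F) tPk)
    {y : Spor.threeJ3 F ω} (hy : (y : GL Spor.F9 F) ∈ tGrp ω pTbl) (h1 : y * y = 1)
    (h2 : y ≠ 1) : IsConj y t := by
  obtain ⟨i, hi, hr⟩ := exists_index hF hω pTbl_check.1 hy
  rw [pTbl_check.2] at hi
  have hi0 : i ≠ 0 := fun e => h2 (Subtype.ext (by
    refine hr.eq ?_
    subst e
    have h := pTbl_check.1
    simp only [checkGrp, Bool.and_eq_true] at h
    rw [eqM_eq h.1.1.1.2]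
    exact Rep.one))
  have hsq : eqM (mul (pTbl.els.getD i onePk) (pTbl.els.getD i onePk)) onePk = true := by
    have h := List.all_eq_true.1 p_sq i (List.mem_range.2 hi)
    rw [Bool.or_eq_true] at h
    exact h.resolve_right fun h' =>
      ne_one_of_key hF hω (hr.mul (two_eq_zero hF) hω hr) h' (congrArg Subtype.val h1)
  have h := List.all_eq_true.1 p_conj i (List.mem_range.2 hi)
  simp only [Bool.or_eq_true, Bool.not_eq_true', Bool.and_eq_true] at h
  obtain ⟨hw, hc⟩ := h.resolve_left fun e => by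
    rcases e with e | e
    · exact hi0 (Nat.eq_of_beq_eq_true e)
    · rw [hsq] at e; exact Bool.noConfusion e
  have hg := rep_gW (ω := ω) hF hω (pConjW.getD i [])
  rw [eqM_eq hw] at hg
  refine isConj_iff.2 ⟨⟨_, gW_mem hF hω (pConjW.getD i [])⟩, ?_⟩
  rw [mul_inv_eq_iff_eq_mul]
  exact Subtype.ext ((hg.mul (two_eq_zero hF) hω hr).eq
    (by rw [eqM_eq hc]; exact ht.mul (two_eq_zero hF) hω hg))

theorem isConj_t {t : Spor.threeJ3 F ω} (ht : Rep ω (t : GL Spor.F9 F) tPk)
    {x : Spor.threeJ3 F ω} (h1 : x * x = 1) (h2 : x ≠ 1) : IsConj x t := by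
  haveI : Fact (Nat.Prime 2) := ⟨Nat.prime_two⟩
  set P : Subgroup (Spor.threeJ3 F ω) := (tGrp ω pTbl).subgroupOf (Spor.threeJ3 F ω) with hP
  have hPc : Nat.card P = 2 ^ 7 :=
    (Nat.card_congr (Subgroup.subgroupOfEquivOfLe (tGrp_le hF hω pTbl)).toEquiv).trans
      ((card_tGrp hF hω pTbl_check.1).trans pTbl_check.2)
  obtain ⟨S, hS⟩ := (IsPGroup.of_card hPc).exists_le_sylow
  have hSP : (S : Subgroup (Spor.threeJ3 F ω)) = P := by
    refine (Subgroup.eq_of_le_of_card_ge hS ?_).symm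
    obtain ⟨k, hk⟩ := IsPGroup.iff_card.1 S.2
    have hd := Subgroup.card_subgroup_dvd_card (S : Subgroup (Spor.threeJ3 F ω))
    rw [hk, card_threeJ3 hF hω] at hd
    rw [hk, hPc]
    refine Nat.pow_le_pow_right (by norm_num) ?_
    by_contra hlt
    have := (Nat.pow_dvd_pow 2 (show 8 ≤ k by omega)).trans hd
    norm_num at this
  have hx : orderOf x = 2 := orderOf_eq_prime (by rw [pow_two, h1]) h2
  have hz : IsPGroup 2 (Subgroup.zpowers x) :=
    IsPGroup.of_card (n := 1) (by rw [Nat.card_zpowers, hx, pow_one])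
  obtain ⟨R, hR⟩ := hz.exists_le_sylow
  obtain ⟨g, hg⟩ := MulAction.exists_smul_eq (Spor.threeJ3 F ω) R S
  have hmem : g * x * g⁻¹ ∈ P := by
    rw [← hSP, ← hg, Sylow.coe_subgroup_smul]
    exact ⟨x, hR (Subgroup.mem_zpowers x), rfl⟩
  refine (isConj_iff.2 ⟨g, rfl⟩ : IsConj x (g * x * g⁻¹)).trans
    (conj_in_sylow hF hω ht hmem ?_ ?_)
  · calc g * x * g⁻¹ * (g * x * g⁻¹) = g * (x * x) * g⁻¹ := by group
      _ = 1 := by rw [h1, mul_one, mul_inv_cancel]
  · exact fun e => h2 (by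
      calc x = g⁻¹ * (g * x * g⁻¹) * g := by group
        _ = 1 := by rw [e, mul_one, inv_mul_cancel])

theorem ncard_fixed_le {t : Spor.threeJ3 F ω} (ht : (t : GL Spor.F9 F) = kE ω 4) :
    Nat.card {l : MulAction.orbit (Spor.threeJ3 F ω) (baseLine ω) // t • l = l} ≤ 136 := by
  classical
  have hin : ∀ l ∈ MulAction.orbit (Spor.threeJ3 F ω) (baseLine ω),
      (t : GL Spor.F9 F) • l = l → ∃ c ∈ fixLines, l = ln ω c := by
    intro l hl hfix
    rw [orbit_baseLine hF hω] at hl
    obtain ⟨p, hp, ⟨⟨k, hk⟩, rfl⟩⟩ := hl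
    obtain ⟨n, hn, rfl⟩ := (mem_monoGrp hF hω).1 hk
    have h := List.all_eq_true.1 tConj_check n (List.mem_range.2 hn)
    simp only [Bool.and_eq_true] at h
    obtain ⟨⟨⟨hu, hu'⟩, hcls⟩, heq⟩ := h
    have bu := Nat.le_of_ble_eq_true hu
    have bu' := Nat.le_of_ble_eq_true hu'
    have h2 := two_eq_zero hF
    have e : kE ω 4 * kE ω n = kE ω n * kE ω (tConj.getD (tConjIx.getD n 9) 648) :=
      ((rep_kE hF hω (by norm_num)).mul h2 hω (rep_kE hF hω hn)).eq (by
        rw [show k1M 4 = tPk from rfl, eqM_eq heq]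
        exact (rep_kE hF hω hn).mul h2 hω (rep_kE hF hω bu'))
    change (t : GL Spor.F9 F) • (kE ω n • ln ω p.1) = kE ω n • ln ω p.1 at hfix
    rw [ht, ← mul_smul, e, mul_smul, smul_left_cancel_iff,
      (rep_kE hF hω bu').smul_ln h2 hω] at hfix
    have hg : canon p.1 = p.1 := by
      have hgood := List.all_eq_true.1 ptReps_good p hp
      simp only [goodRep, Bool.and_eq_true] at hgood
      exact Nat.eq_of_beq_eq_true hgood.2
    have hc := canon_eq_of_ln hF hω hfix
    rw [hg] at hc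
    have hf := List.all_eq_true.1 (List.all_eq_true.1 fix_lines.1 p hp)
      (tConjIx.getD n 9) (List.mem_range.2 bu)
    rw [Bool.or_eq_true, hc] at hf
    have hf' := hf.resolve_left (by simp)
    obtain ⟨m, hm, hmn⟩ := List.any_eq_true.1 hcls
    obtain ⟨c, hc1, hc2⟩ := List.any_eq_true.1 (List.all_eq_true.1 hf' m hm)
    refine ⟨c, hc1, ?_⟩
    rw [← Nat.eq_of_beq_eq_true hc2, ← Nat.eq_of_beq_eq_true hmn, ← kE_smul_ln hF hω hn]
    rfl
  refine le_trans (Nat.card_le_card_of_injective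
    (β := ↥((fixLines.toFinset.image (ln ω) : Finset (Submodule F (Spor.F9 → F)))))
    (fun l => ⟨l.1.1, ?_⟩) ?_) ?_
  · obtain ⟨c, hc, e⟩ := hin l.1.1 l.1.2 (congrArg Subtype.val l.2)
    exact Finset.mem_image.2 ⟨c, List.mem_toFinset.2 hc, e.symm⟩
  · intro a b e
    exact Subtype.ext (Subtype.ext (congrArg Subtype.val e :))
  · rw [Nat.card_eq_finsetCard]
    exact Finset.card_image_le.trans ((List.toFinset_card_le _).trans fix_lines.2.le)

theorem index_centralizer_ge {t : Spor.threeJ3 F ω} (htk : (t : GL Spor.F9 F) = kE ω 4)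
    (ht : Rep ω (t : GL Spor.F9 F) tPk) :
    26163 ≤ (Subgroup.centralizer ({t} : Set (Spor.threeJ3 F ω))).index := by
  classical
  let I := {x : Spor.threeJ3 F ω // x * x = 1 ∧ x ≠ 1}
  let O := MulAction.orbit (Spor.threeJ3 F ω) (baseLine ω)
  haveI : Finite O := Set.toFinite _
  letI : Fintype I := Fintype.ofFinite _
  letI : Fintype O := Fintype.ofFinite _
  let e : (Σ x : I, {l : O // x.1 • l = l}) ≃ (Σ l : O, {x : I // x.1 • l = l}) :=
    { toFun := fun q => ⟨q.2.1, q.1, q.2.2⟩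
      invFun := fun q => ⟨q.2.1, q.1, q.2.2⟩
      left_inv := fun _ => rfl
      right_inv := fun _ => rfl }
  have hx : ∀ x : I, Nat.card {l : O // x.1 • l = l} ≤ 136 := by
    intro x
    obtain ⟨g, hg⟩ := isConj_iff.1 (isConj_t hF hω ht x.2.1 x.2.2)
    refine le_trans (Nat.card_le_card_of_injective
      (β := {l : O // t • l = l}) (fun l => ⟨g • l.1, ?_⟩) ?_) (ncard_fixed_le hF hω htk)
    · rw [← hg, mul_smul, mul_smul, inv_smul_smul, l.2]
    · intro a b h
      exact Subtype.ext (smul_left_cancel g (congrArg Subtype.val h))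
  have hl : ∀ l : O, 153 ≤ Nat.card {x : I // x.1 • l = l} := by
    intro l
    obtain ⟨g, hg⟩ := l.2
    have hs : ∀ k : Fin 153, ∃ x : Spor.threeJ3 F ω, (x * x = 1 ∧ x ≠ 1) ∧
        x • baseLine ω = baseLine ω ∧
        (x : GL Spor.F9 F) = rE ω (stabInv.getD k (0, 0)).1 * kE ω (stabInv.getD k (0, 0)).2 ∧
        (stabInv.getD k (0, 0)).1 < 10 ∧ (stabInv.getD k (0, 0)).2 < 648 := by
      intro k
      have hk : (k : ℕ) < stabInv.length := lt_of_lt_of_eq k.2 stabInv_check.1.symm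
      have h := List.all_eq_true.1 stabInv_check.2.1 _ (List.getElem_mem hk)
      rw [← List.getD_eq_getElem _ (0, 0) hk] at h
      generalize stabInv.getD k (0, 0) = p at h ⊢
      simp only [Bool.and_eq_true] at h
      obtain ⟨⟨⟨h1, h2⟩, h3⟩, h4⟩ := h
      have b1 := Nat.le_of_ble_eq_true h1
      have b2 := Nat.le_of_ble_eq_true h2
      have hm : rE ω p.1 * kE ω p.2 ∈ stabGrp ω := (mem_stabGrp hF hω).2 ⟨_, b1, _, b2, rfl⟩
      have hr := (rep_rE hF hω b1).1.mul (two_eq_zero hF) hω (rep_kE hF hω b2)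
      refine ⟨⟨_, stabGrp_le hF hω hm⟩, ⟨Subtype.ext ((hr.mul (two_eq_zero hF) hω hr).eq
        (by rw [eqM_eq h3]; exact Rep.one)), fun e => ne_one_of_key hF hω hr h4
          (congrArg Subtype.val e)⟩, stabGrp_fix hF hω hm, rfl, b1, b2⟩
    choose s h1 h2 h3 h4 h5 using hs
    have hconj : ∀ k, g * s k * g⁻¹ * (g * s k * g⁻¹) = 1 ∧ g * s k * g⁻¹ ≠ 1 := fun k => by
      refine ⟨?_, fun e => (h1 k).2 ?_⟩
      · calc g * s k * g⁻¹ * (g * s k * g⁻¹) = g * (s k * s k) * g⁻¹ := by group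
          _ = 1 := by rw [(h1 k).1, mul_one, mul_inv_cancel]
      · calc s k = g⁻¹ * (g * s k * g⁻¹) * g := by group
          _ = 1 := by rw [e, mul_one, inv_mul_cancel]
    have hfix : ∀ k, (g * s k * g⁻¹) • l = l := fun k => Subtype.ext (by
      show (g * s k * g⁻¹) • (l : Submodule F (Spor.F9 → F)) = (l : Submodule F (Spor.F9 → F))
      rw [← hg]
      show (g * s k * g⁻¹) • g • baseLine ω = g • baseLine ω
      rw [mul_smul, mul_smul, inv_smul_smul, h2 k])
    refine (Nat.card_fin 153).ge.trans (Nat.card_le_card_of_injective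
      (fun k => (⟨⟨g * s k * g⁻¹, hconj k⟩, hfix k⟩ : {x : I // x.1 • l = l})) fun a b h => ?_)
    have h' : s a = s b := mul_left_cancel (mul_right_cancel
      (congrArg (fun z : {x : I // x.1 • l = l} => z.1.1) h))
    have h'' := congrArg Subtype.val h'
    rw [h3, h3] at h''
    obtain ⟨e1, e2⟩ := rE_coset_injective hF hω (h4 a) (h4 b) (h5 a) (h5 b) h''
    have ha : (a : ℕ) < stabInv.length := lt_of_lt_of_eq a.2 stabInv_check.1.symm
    have hb : (b : ℕ) < stabInv.length := lt_of_lt_of_eq b.2 stabInv_check.1.symm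
    refine Fin.ext ((distinct_nodup stabInv_check.2.2).getElem_inj_iff
      (hi := by simpa using ha) (hj := by simpa using hb) |>.1 ?_)
    rw [List.getElem_map, List.getElem_map, ← List.getD_eq_getElem _ (0, 0) ha,
      ← List.getD_eq_getElem _ (0, 0) hb, e1, e2]
  have hI : 153 * 23256 ≤ Nat.card I * 136 := by
    calc 153 * 23256 = ∑ _l : O, 153 := by
          rw [Finset.sum_const, Finset.card_univ, ← Nat.card_eq_fintype_card,
            Nat.card_coe_set_eq, ncard_orbit_baseLine hF hω]; rfl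
      _ ≤ ∑ l : O, Nat.card {x : I // x.1 • l = l} := Finset.sum_le_sum fun l _ => hl l
      _ = Nat.card (Σ l : O, {x : I // x.1 • l = l}) := Nat.card_sigma.symm
      _ = Nat.card (Σ x : I, {l : O // x.1 • l = l}) := (Nat.card_congr e).symm
      _ = ∑ x : I, Nat.card {l : O // x.1 • l = l} := Nat.card_sigma
      _ ≤ ∑ _x : I, 136 := Finset.sum_le_sum fun x _ => hx x
      _ = Nat.card I * 136 := by
          rw [Finset.sum_const, Finset.card_univ, ← Nat.card_eq_fintype_card]; rfl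
  have hle : Nat.card I ≤ (Subgroup.centralizer ({t} : Set (Spor.threeJ3 F ω))).index := by
    choose g hg using fun x : I => isConj_iff.1 (isConj_t hF hω ht x.2.1 x.2.2)
    refine Nat.card_le_card_of_injective
      (fun x => QuotientGroup.mk (s := Subgroup.centralizer ({t} : Set (Spor.threeJ3 F ω))) (g x)⁻¹) fun a b h => ?_
    have h' := QuotientGroup.eq.1 h
    rw [inv_inv, Subgroup.mem_centralizer_singleton_iff] at h'
    refine Subtype.ext ?_
    calc a.1 = (g a)⁻¹ * t * g a := by rw [← hg a]; group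
      _ = (g a)⁻¹ * (t * (g a * (g b)⁻¹)) * g b := by group
      _ = (g a)⁻¹ * ((g a * (g b)⁻¹) * t) * g b := by rw [h']
      _ = (g b)⁻¹ * t * g b := by group
      _ = b.1 := by rw [← hg b]; group
  omega

theorem conj_normal {h : GL Spor.F9 F} (hh : h ∈ tGrp ω hTbl) {q : GL Spor.F9 F}
    (hq : q ∈ tGrp ω qTbl) : h * q * h⁻¹ ∈ tGrp ω qTbl := by
  revert q
  refine closure_subset (S := {h | ∀ {q}, q ∈ tGrp ω qTbl → h * q * h⁻¹ ∈ tGrp ω qTbl})
    (fun {q} hq => by simpa using hq) ?_ hh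
  rintro _ ⟨g, rfl⟩ s hs q hq
  obtain ⟨i, hi, hr⟩ := exists_index hF hω qTbl_check.1 (hs hq)
  rw [qTbl_check.2.2.1] at hi
  have hg : (g : ℕ) < 2 := hTbl_check.2.2.2 ▸ g.2
  have h := List.all_eq_true.1 (List.all_eq_true.1 hq_normal g (List.mem_range.2 hg)) i
    (List.mem_range.2 hi)
  rw [Bool.and_eq_true] at h
  have hb := Nat.le_of_ble_eq_true h.1
  obtain ⟨y, hy, hyr⟩ := exists_rep hF hω qTbl_check.1 (i := (hqTab.getD g []).getD i 32)
    (by rw [qTbl_check.2.2.1]; exact hb)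
  have hT := hTbl_check.1
  simp only [checkGrp, Bool.and_eq_true] at hT
  have hgr := List.all_eq_true.1 hT.1.1.2 g (List.mem_range.2 g.2)
  rw [Bool.and_eq_true] at hgr
  have hgr' : Rep ω (gW ω (hTbl.gens.getD g [])) (hTbl.els.getD (hTbl.gi.getD g 0) onePk) := by
    rw [← eqM_eq hgr.1]; exact rep_gW hF hω _
  have e : gW ω (hTbl.gens.getD g []) * (s * q * s⁻¹) = y * gW ω (hTbl.gens.getD g []) :=
    (hgr'.mul (two_eq_zero hF) hω hr).eq
      (by rw [eqM_eq h.2]; exact hyr.mul (two_eq_zero hF) hω hgr')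
  show gW ω (hTbl.gens.getD g []) * s * q * (gW ω (hTbl.gens.getD g []) * s)⁻¹ ∈ _
  rw [mul_inv_rev, show gW ω (hTbl.gens.getD g []) * s * q * (s⁻¹ * (gW ω (hTbl.gens.getD g []))⁻¹)
    = gW ω (hTbl.gens.getD g []) * (s * q * s⁻¹) * (gW ω (hTbl.gens.getD g []))⁻¹ by group, e,
    mul_inv_cancel_right]
  exact hy

theorem apart {q h : Spor.threeJ3 F ω} (hq : (q : GL Spor.F9 F) ∈ tGrp ω qTbl)
    (hh : (h : GL Spor.F9 F) ∈ tGrp ω hTbl)
    (hz : h⁻¹ * q ∈ Subgroup.center (Spor.threeJ3 F ω)) : q = 1 ∧ h = 1 := by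
  obtain ⟨a, ha, hqr⟩ := exists_index hF hω qTbl_check.1 hq
  obtain ⟨b, hb, hhr⟩ := exists_index hF hω hTbl_check.1 hh
  rw [qTbl_check.2.2.1] at ha
  rw [hTbl_check.2.2.1] at hb
  obtain ⟨c, hc, ec⟩ := (mem_center_iff hF hω).1 hz
  have hk : ∃ k < 3, c = ω ^ k := by
    rcases eq_pow_omega hF hω hc with h | h | h
    exacts [⟨0, by norm_num, by rw [h, pow_zero]⟩, ⟨1, by norm_num, by rw [h, pow_one]⟩,
      ⟨2, by norm_num, h⟩]
  obtain ⟨k, hk, rfl⟩ := hk
  have eq : (q : GL Spor.F9 F) = gE ω 0 ^ k * (h : GL Spor.F9 F) := Units.ext (by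
    have : ((q : GL Spor.F9 F) : Matrix Spor.F9 Spor.F9 F) =
        ((h : GL Spor.F9 F) : Matrix Spor.F9 Spor.F9 F) * (ω ^ k • 1) := by
      rw [← ec, ← Units.val_mul, ← Subgroup.coe_mul, mul_inv_cancel_left]
    rw [this, Units.val_mul, Units.val_pow_eq_pow_val, gE_zero_eq hF hω, smul_pow, one_pow,
      Matrix.mul_smul, Matrix.smul_mul, mul_one, one_mul])
  have hr := (rep_powPk hF hω (rep_gE hF hω 0) k).mul (two_eq_zero hF) hω hhr
  rw [← eq] at hr
  have hkey := mKey_eq hF hω hqr.1 hr.1 (hqr.2.symm.trans hr.2)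
  have h := List.all_eq_true.1 (List.all_eq_true.1 (List.all_eq_true.1 qh_apart a
    (List.mem_range.2 ha)) b (List.mem_range.2 hb)) k (List.mem_range.2 hk)
  rw [hkey, Nat.beq_refl] at h
  simp only [Bool.or_eq_true, Bool.and_eq_true, Bool.not_true, Bool.false_eq_true, or_false] at h
  obtain ⟨⟨e1, e2⟩, -⟩ := h
  rw [Nat.eq_of_beq_eq_true e1] at hqr
  rw [Nat.eq_of_beq_eq_true e2] at hhr
  have hQ := qTbl_check.1
  have hH := hTbl_check.1
  simp only [checkGrp, Bool.and_eq_true] at hQ hH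
  rw [eqM_eq hQ.1.1.1.2] at hqr
  rw [eqM_eq hH.1.1.1.2] at hhr
  exact ⟨Subtype.ext (hqr.eq Rep.one), Subtype.ext (hhr.eq Rep.one)⟩

theorem qGrp_structure {P : Type*} [Group P] (i : P ≃* tGrp ω qTbl) :
    IsExtraspecial 2 P ∧ ∀ E : Subgroup P, IsElementaryAbelian 2 E → Nat.card E ≤ 2 ^ 2 := by
  classical
  obtain ⟨e, -, hm⟩ := exists_model hF hω qTbl_check.1 qTbl_check.2.1
  have hlen := qTbl_check.2.2.1
  haveI : Finite P := Finite.of_equiv _ i.symm.toEquiv
  let f : P → ℕ := fun x => e (i x)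
  have hf : ∀ x, f x < 32 := fun x => hlen ▸ (e (i x)).2
  have finj : ∀ {x y}, f x = f y → x = y := fun h => i.injective (e.injective (Fin.ext h))
  have fsur : ∀ a < 32, ∃ x, f x = a := fun a ha => by
    obtain ⟨y, hy⟩ := e.surjective ⟨a, hlen.symm ▸ ha⟩
    exact ⟨i.symm y, by show ((e (i (i.symm y))) : ℕ) = a; rw [i.apply_symm_apply, hy]⟩
  have fmul : ∀ x y, f (x * y) = qm (f x) (f y) := fun x y => by
    show ((e (i (x * y))) : ℕ) = _
    rw [map_mul, hm]
    exact congrArg (fun d => (qMul.getD (f x) []).getD (f y) d) hlen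
  have hqm0 : qm 0 0 = 0 := by decide +kernel
  have f1 : f 1 = 0 := by
    obtain ⟨x, hx⟩ := fsur 0 (by norm_num)
    have h := fmul x x
    rw [hx, hqm0] at h
    rw [show (1 : P) = x from (mul_eq_left.1 (finj (h.trans hx.symm))).symm]
    exact hx
  have hcent : ∀ x, x ∈ Subgroup.center P ↔ f x = 0 ∨ f x = qZ := by
    intro x
    have h := List.all_eq_true.1 q_center (f x) (List.mem_range.2 (hf x))
    rw [beq_iff_eq, Bool.eq_iff_iff, List.all_eq_true] at h
    rw [Subgroup.mem_center_iff]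
    simp only [Bool.or_eq_true, List.mem_range] at h
    constructor
    · intro hc
      rcases h.1 (fun b hb => by
        obtain ⟨y, rfl⟩ := fsur b hb
        rw [← fmul, ← fmul, hc y]; exact Nat.beq_refl _) with e | e
      · exact Or.inl (Nat.eq_of_beq_eq_true e)
      · exact Or.inr (Nat.eq_of_beq_eq_true e)
    · intro hx y
      refine finj ?_
      rw [fmul, fmul]
      have := h.2 (by rcases hx with e | e <;> rw [e] <;> simp) (f y) (hf y)
      exact (Nat.eq_of_beq_eq_true this).symm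
  have hq : qZ < 32 ∧ qZ ≠ 0 := ⟨qTbl_check.2.2.2.2, by decide⟩
  obtain ⟨z, hz⟩ := fsur qZ hq.1
  refine ⟨PGroup.isExtraspecial_of (IsPGroup.of_card (n := 5) ?_) ?_ ?_ ?_ ?_, fun E hE => ?_⟩
  · rw [Nat.card_congr (i.toEquiv.trans e), Nat.card_fin, hlen]; norm_num
  · have hs : (Subgroup.center P : Set P) = {1, z} := by
      ext x
      rw [SetLike.mem_coe, hcent, Set.mem_insert_iff, Set.mem_singleton_iff, ← f1, ← hz]
      exact ⟨fun h => h.imp finj finj, fun h => h.imp (congrArg f) (congrArg f)⟩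
    rw [← Set.ncard_pair (show (1 : P) ≠ z from fun h => hq.2 (by rw [← hz, ← h, f1])), ← hs]
    exact Nat.card_coe_set_eq (s := (Subgroup.center P : Set P))
  · have hne := q_comm.2.2
    simp only [Bool.or_eq_true, Bool.not_eq_true'] at hne
    have key : ∀ a < 32, ∀ b < 32, Nat.beq (qm a b) (qm b a) = false → ∃ x y : P, x * y ≠ y * x := by
      intro a ha b hb h
      obtain ⟨x, rfl⟩ := fsur a ha
      obtain ⟨y, rfl⟩ := fsur b hb
      refine ⟨x, y, fun e => ?_⟩
      rw [← fmul, ← fmul, e, Nat.beq_refl] at h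
      exact Bool.noConfusion h
    rcases hne with h | h
    exacts [key 2 (by norm_num) 3 (by norm_num) h, key 2 (by norm_num) 4 (by norm_num) h]
  · intro a b
    have h := List.all_eq_true.1 (List.all_eq_true.1 q_comm.1 (f a) (List.mem_range.2 (hf a)))
      (f b) (List.mem_range.2 (hf b))
    rw [Bool.or_eq_true, ← fmul, ← fmul] at h
    rcases h with h | h
    · rw [commutatorElement_eq_one_iff_mul_comm.2 (finj (Nat.eq_of_beq_eq_true h))]
      exact one_mem _
    · rw [← hz, ← fmul] at h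
      rw [commutatorElement_def, finj (Nat.eq_of_beq_eq_true h),
        show z * (b * a) * a⁻¹ * b⁻¹ = z by group]
      exact (hcent z).2 (Or.inr hz)
  · intro a
    refine (hcent _).2 ?_
    have h := List.all_eq_true.1 q_comm.2.1 (f a) (List.mem_range.2 (hf a))
    rw [Bool.or_eq_true, ← fmul, ← pow_two] at h
    exact h.imp Nat.eq_of_beq_eq_true Nat.eq_of_beq_eq_true
  · by_contra hlt
    obtain ⟨hcomm, hexp⟩ := hE
    have hfin : Finite E := Finite.of_injective (fun x : E => (⟨f x, hf x⟩ : Fin 32))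
      fun x y h => Subtype.ext (finj (congrArg Fin.val h))
    obtain ⟨a, ha1⟩ : ∃ a : E, f a ≠ 0 := by
      by_contra! hall
      have : Subsingleton E :=
        ⟨fun x y => Subtype.ext (finj ((hall x).trans (hall y).symm))⟩
      rw [Nat.card_unique] at hlt
      norm_num at hlt
    have more : ∀ s : Finset ℕ, s.card < Nat.card E → ∃ x : E, f x ∉ s := by
      intro s hs
      by_contra! hall
      have := Nat.card_le_card_of_injective (β := s) (fun x : E => ⟨f x, hall x⟩)
        fun x y h => Subtype.ext (finj (congrArg Subtype.val h))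
      rw [Nat.card_eq_finsetCard] at this
      omega
    obtain ⟨b, hb⟩ := more {0, f a} (lt_of_le_of_lt (Finset.card_le_two) (by omega))
    obtain ⟨c, hc⟩ := more {0, f a, f b, qm (f a) (f b)} (lt_of_le_of_lt (Finset.card_le_four)
      (by omega))
    simp only [Finset.mem_insert, Finset.mem_singleton, not_or] at hb hc
    have hcm : ∀ x y : E, (x : P) * y = y * x := fun x y =>
      congrArg Subtype.val (hcomm.is_comm.comm x y)
    have hsq : ∀ x : E, qm (f x) (f x) = 0 := fun x => by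
      rw [← fmul, ← pow_two, hexp x x.2, f1]
    have hco : ∀ x y : E, qm (f x) (f y) = qm (f y) (f x) := fun x y => by
      rw [← fmul, ← fmul, hcm]
    have h := List.all_eq_true.1 q_rank (f a) (List.mem_range.2 (hf a))
    simp only [Bool.or_eq_true, Bool.not_eq_true', hsq a, Nat.beq_refl, Bool.true_eq_false,
      false_or] at h
    have h' := List.all_eq_true.1 h (f b) (List.mem_range.2 (hf b))
    simp only [Bool.or_eq_true, Bool.not_eq_true', hsq b, hco a b, Nat.beq_refl,
      Bool.true_eq_false, false_or] at h'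
    have h'' := List.all_eq_true.1 h' (f c) (List.mem_range.2 (hf c))
    simp only [Bool.or_eq_true, Bool.not_eq_true', hsq c, hco a c, hco b c, Nat.beq_refl,
      Bool.true_eq_false, false_or, Nat.beq_eq] at h''
    rw [hco a b] at hc
    omega

theorem hGrp_equiv : Nonempty (tGrp ω hTbl ≃* alternatingGroup (Fin 5)) := by
  classical
  obtain ⟨e, -, hm⟩ := exists_model hF hω hTbl_check.1 hTbl_check.2.1
  have hlen := hTbl_check.2.2.1
  let ix' : tGrp ω hTbl → Fin 60 := fun x => ⟨e x, hlen ▸ (e x).2⟩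
  have hinj : Function.Injective ix' := fun x y h => e.injective (Fin.ext (congrArg Fin.val h))
  let ρ : Fin 60 → Equiv.Perm (Fin 5) := fun a =>
    ⟨hI a, hI (hInv.getD a 0), (h_perm a).2.1, (h_perm a).1⟩
  let φ : tGrp ω hTbl →* Equiv.Perm (Fin 5) := MonoidHom.mk' (fun x => ρ (ix' x)) fun x y => by
    refine Equiv.ext fun j => ?_
    show hI (ix' (x * y)) j = hI (ix' x) (hI (ix' y) j)
    rw [show ((ix' (x * y)) : ℕ) = (hMul.getD (ix' x) []).getD (ix' y) 60 by
      show ((e (x * y)) : ℕ) = _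
      rw [hm]
      exact congrArg (fun d => (hMul.getD (ix' x) []).getD (ix' y) d) hlen]
    exact h_hom _ _ _
  have h0 : ix' 1 = 0 := (h_perm (ix' 1)).2.2 fun j => DFunLike.congr_fun φ.map_one j
  have φinj : Function.Injective φ := (injective_iff_map_eq_one φ).2 fun x hx =>
    hinj (((h_perm (ix' x)).2.2 fun j => DFunLike.congr_fun hx j).trans h0.symm)
  have hev : ∀ a : Fin 60, Equiv.Perm.sign (ρ a) = 1 := by decide +kernel
  let ψ : tGrp ω hTbl →* alternatingGroup (Fin 5) :=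
    φ.codRestrict _ fun x => Equiv.Perm.mem_alternatingGroup.2 (hev _)
  refine ⟨MulEquiv.ofBijective ψ ?_⟩
  have hψ : Function.Injective ψ := fun x y h => φinj (congrArg Subtype.val h)
  refine hψ.bijective_of_nat_card_le ?_
  rw [card_tGrp hF hω hTbl_check.1, hlen, nat_card_alternatingGroup, Nat.card_fin]
  norm_num [Nat.factorial]

theorem center_cube {c : Spor.threeJ3 F ω} (hc : c ∈ Subgroup.center (Spor.threeJ3 F ω)) :
    c ^ 3 = 1 := by
  have h : (⟨c, hc⟩ : Subgroup.center (Spor.threeJ3 F ω)) ^ Nat.card (Subgroup.center (Spor.threeJ3 F ω)) = 1 :=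
    pow_card_eq_one'
  have h' := congrArg Subtype.val h
  rwa [SubgroupClass.coe_pow, card_center hF hω] at h'

theorem isConj_J3 {x y : Spor.J3 F ω} (hx : orderOf x = 2) (hy : orderOf y = 2) : IsConj x y := by
  obtain ⟨t, -, ht, -, -⟩ := exists_t hF hω
  have key : ∀ x : Spor.J3 F ω, orderOf x = 2 →
      IsConj x (QuotientGroup.mk' (Subgroup.center (Spor.threeJ3 F ω)) t) := by
    intro x hx
    obtain ⟨g, rfl⟩ := QuotientGroup.mk'_surjective _ x
    have hg2 : g ^ 2 ∈ Subgroup.center (Spor.threeJ3 F ω) := by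
      rw [← QuotientGroup.eq_one_iff]
      have := pow_orderOf_eq_one (QuotientGroup.mk' (Subgroup.center (Spor.threeJ3 F ω)) g)
      rw [hx, ← map_pow] at this
      exact this
    have h6 : g ^ 3 * g ^ 3 = 1 := by
      rw [← pow_add, show 3 + 3 = 2 * 3 from rfl, pow_mul]
      exact center_cube hF hω hg2
    have he : QuotientGroup.mk' (Subgroup.center (Spor.threeJ3 F ω)) (g ^ 3) =
        QuotientGroup.mk' (Subgroup.center (Spor.threeJ3 F ω)) g := by
      rw [pow_succ, map_mul, show QuotientGroup.mk' (Subgroup.center (Spor.threeJ3 F ω)) (g ^ 2) = 1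
        from (QuotientGroup.eq_one_iff _).2 hg2, one_mul]
    rw [← he]
    refine MonoidHom.map_isConj _ (isConj_t hF hω ht h6 fun e => ?_)
    rw [e, map_one] at he
    rw [← he, orderOf_one] at hx
    norm_num at hx
  exact (key x hx).trans (key y hy).symm

theorem involution_centralizer : ∃ t : Spor.J3 F ω, orderOf t = 2 ∧
    ∃ (Q : Subgroup ↥(Subgroup.centralizer ({t} : Set (Spor.J3 F ω)))) (_ : Q.Normal),
      IsExtraspecial 2 Q ∧ Nat.card Q = 32 ∧
      (∀ E : Subgroup Q, IsElementaryAbelian 2 E → Nat.card E ≤ 2 ^ 2) ∧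
      (∃ H : Subgroup ↥(Subgroup.centralizer ({t} : Set (Spor.J3 F ω))), Q.IsComplement' H) ∧
      Nonempty (↥(Subgroup.centralizer ({t} : Set (Spor.J3 F ω))) ⧸ Q ≃*
        ↥(alternatingGroup (Fin 5))) := by
  classical
  haveI : Fact (Nat.Prime 2) := ⟨Nat.prime_two⟩
  obtain ⟨t, htk, htr, ht1, ht0⟩ := exists_t hF hω
  let π : Spor.threeJ3 F ω →* Spor.J3 F ω :=
    QuotientGroup.mk' (Subgroup.center (Spor.threeJ3 F ω))
  have hπ : Function.Surjective π := QuotientGroup.mk'_surjective _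
  have hker : ∀ g, π g = 1 ↔ g ∈ Subgroup.center (Spor.threeJ3 F ω) := fun g =>
    QuotientGroup.eq_one_iff g
  let Qs : Subgroup (Spor.threeJ3 F ω) := (tGrp ω qTbl).subgroupOf (Spor.threeJ3 F ω)
  let Hs : Subgroup (Spor.threeJ3 F ω) := (tGrp ω hTbl).subgroupOf (Spor.threeJ3 F ω)
  let iQ : Qs ≃* tGrp ω qTbl := Subgroup.subgroupOfEquivOfLe (tGrp_le hF hω qTbl)
  let iH : Hs ≃* tGrp ω hTbl := Subgroup.subgroupOfEquivOfLe (tGrp_le hF hω hTbl)
  have hap : ∀ q ∈ Qs, ∀ h ∈ Hs, π q = π h → q = 1 ∧ h = 1 := fun q hq h hh e =>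
    apart hF hω hq hh ((hker _).1 (by rw [map_mul, map_inv, e, inv_mul_cancel]))
  have injQ : Function.Injective (π.comp Qs.subtype) := (injective_iff_map_eq_one _).2
    fun q hq => Subtype.ext (hap q q.2 1 (one_mem _) (by rw [map_one]; exact hq)).1
  have injH : Function.Injective (π.comp Hs.subtype) := (injective_iff_map_eq_one _).2
    fun h hh => Subtype.ext (hap 1 (one_mem _) h h.2 (by rw [map_one]; exact hh.symm)).2
  let Qb := (π.comp Qs.subtype).range
  let Hb := (π.comp Hs.subtype).range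
  let jQ : Qb ≃* tGrp ω qTbl := (MonoidHom.ofInjective injQ).symm.trans iQ
  let jH : Hb ≃* tGrp ω hTbl := (MonoidHom.ofInjective injH).symm.trans iH
  set C := Subgroup.centralizer ({π t} : Set (Spor.J3 F ω)) with hC
  have hcom : ∀ {T : GrpTbl}, checkGrp T = true → (∀ i < T.els.length,
      eqM (mul (T.els.getD i onePk) tPk) (mul tPk (T.els.getD i onePk)) = true) →
      ∀ x : Spor.threeJ3 F ω, (x : GL Spor.F9 F) ∈ tGrp ω T → π x ∈ C := by
    intro T hT hc x hx
    obtain ⟨i, hi, hr⟩ := exists_index hF hω hT hx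
    rw [hC, Subgroup.mem_centralizer_singleton_iff, ← map_mul, ← map_mul]
    congr 1
    exact Subtype.ext ((hr.mul (two_eq_zero hF) hω htr).eq
      (by rw [eqM_eq (hc i hi)]; exact htr.mul (two_eq_zero hF) hω hr))
  have hQC : Qb ≤ C := by
    rintro _ ⟨q, rfl⟩
    exact hcom qTbl_check.1 (fun i hi => List.all_eq_true.1 qh_commute.1 i
      (List.mem_range.2 (qTbl_check.2.2.1 ▸ hi))) q q.2
  have hHC : Hb ≤ C := by
    rintro _ ⟨h, rfl⟩
    exact hcom hTbl_check.1 (fun i hi => List.all_eq_true.1 qh_commute.2 i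
      (List.mem_range.2 (hTbl_check.2.2.1 ▸ hi))) h h.2
  let Qc := Qb.subgroupOf C
  let Hc := Hb.subgroupOf C
  let kQ : Qc ≃* tGrp ω qTbl := (Subgroup.subgroupOfEquivOfLe hQC).trans jQ
  let kH : Hc ≃* tGrp ω hTbl := (Subgroup.subgroupOfEquivOfLe hHC).trans jH
  have cQ : Nat.card Qc = 32 := by
    rw [Nat.card_congr kQ.toEquiv, card_tGrp hF hω qTbl_check.1, qTbl_check.2.2.1]
  have cH : Nat.card Hc = 60 := by
    rw [Nat.card_congr kH.toEquiv, card_tGrp hF hω hTbl_check.1, hTbl_check.2.2.1]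
  have hdis : Disjoint Qc Hc := by
    rw [Subgroup.disjoint_def]
    rintro x ⟨q, hq⟩ ⟨h, hh⟩
    have := (hap q q.2 h h.2 (hq.trans hh.symm)).1
    refine Subtype.ext (hq.symm.trans ?_)
    show π (q : Spor.threeJ3 F ω) = 1
    rw [this, map_one]
  have hle : Nat.card C ≤ 1920 := by
    have hidx : 26163 ≤ C.index := by
      have hcomap : C.comap π = Subgroup.centralizer ({t} : Set (Spor.threeJ3 F ω)) := by
        ext g
        rw [Subgroup.mem_comap, hC, Subgroup.mem_centralizer_singleton_iff,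
          Subgroup.mem_centralizer_singleton_iff]
        refine ⟨fun e => ?_, fun e => by rw [← map_mul, ← map_mul, e]⟩
        replace e : π g * π t = π t * π g := e
        set c := g * t * g⁻¹ * t⁻¹ with hc
        have hcc : c ∈ Subgroup.center (Spor.threeJ3 F ω) := (hker c).1 (by
          simp only [hc, map_mul, map_inv]; rw [e]; group)
        have h3 : c ^ 3 = 1 := center_cube hF hω hcc
        have hgt : g * t * g⁻¹ = c * t := by rw [hc]; group
        have h2 : c ^ 2 = 1 := by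
          have : c * t * (c * t) = 1 := by
            rw [← hgt]
            calc g * t * g⁻¹ * (g * t * g⁻¹) = g * (t * t) * g⁻¹ := by group
              _ = 1 := by rw [ht1, mul_one, mul_inv_cancel]
          calc c ^ 2 = c * c * (t * t) := by rw [ht1, mul_one, pow_two]
            _ = c * (c * t) * t := by simp only [mul_assoc]
            _ = c * (t * c) * t := by rw [Subgroup.mem_center_iff.1 hcc t]
            _ = c * t * (c * t) := by simp only [mul_assoc]
            _ = 1 := this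
        have hc1 : c = 1 := by
          calc c = c ^ 3 * (c ^ 2)⁻¹ := by group
            _ = 1 := by rw [h3, h2, inv_one, mul_one]
        rw [hc1, one_mul, mul_inv_eq_iff_eq_mul] at hgt
        exact hgt
      rw [← Subgroup.index_comap_of_surjective C hπ, hcomap]
      exact index_centralizer_ge hF hω htk htr
    have h := C.card_mul_index
    rw [card_J3 hF hω] at h
    nlinarith
  have hmem : Nat.card Qc * Nat.card Hc ≤ Nat.card C := by
    rw [← Nat.card_prod]
    exact Nat.card_le_card_of_injective _ (Subgroup.mul_injective_of_disjoint hdis)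
  have hcomp : Qc.IsComplement' Hc :=
    Subgroup.isComplement'_of_card_mul_and_disjoint (by rw [cQ, cH] at hmem ⊢; omega) hdis
  have hn : Qc.Normal := by
    refine ⟨fun n hn g => ?_⟩
    obtain ⟨⟨a, b⟩, rfl⟩ := hcomp.2 g
    have hb : (b : C) * n * (b : C)⁻¹ ∈ Qc := by
      obtain ⟨q, hq⟩ := hn
      obtain ⟨h, hh⟩ := b.2
      refine ⟨⟨(h : Spor.threeJ3 F ω) * q * (h : Spor.threeJ3 F ω)⁻¹,
        conj_normal hF hω h.2 q.2⟩, ?_⟩
      show π ((h : Spor.threeJ3 F ω) * q * (h : Spor.threeJ3 F ω)⁻¹) = _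
      rw [map_mul, map_mul, map_inv]
      change π h = _ at hh
      change π q = _ at hq
      rw [hh, hq]
      rfl
    show (a : C) * b * n * ((a : C) * b)⁻¹ ∈ Qc
    rw [show (a : C) * b * n * ((a : C) * b)⁻¹ = a * (b * n * (b : C)⁻¹) * (a : C)⁻¹ by group]
    exact mul_mem (mul_mem a.2 hb) (inv_mem a.2)
  obtain ⟨hx, hr⟩ := qGrp_structure hF hω kQ
  refine ⟨π t, orderOf_eq_prime (by rw [← map_pow, pow_two, ht1, map_one]) fun e => ?_,
    Qc, hn, hx, cQ, hr, ⟨Hc, hcomp⟩, ?_⟩
  · have h3 : t ^ 3 = 1 := center_cube hF hω ((hker t).1 e)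
    exact ht0 (by rw [← h3, pow_succ, pow_two, ht1, one_mul])
  · obtain ⟨iA⟩ := hGrp_equiv hF hω
    exact ⟨(hcomp.symm.QuotientMulEquiv).trans (kH.trans iA)⟩

end CfsgLib.JankoThree
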