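import Mathlib
import Cfsg.Agent.JankoThree.InvCheck
import Cfsg.Agent.JankoThree.OutData

/-! Kernel checks for the automorphisms of `J₃`. -/

set_option autoImplicit false

namespace CfsgLib.JankoThree

/-- product in the complement -/
def hm' (a b : ℕ) : ℕ := (hMul.getD a []).getD b 60

/-- product in the centraliser, in coordinates -/
def cm (x y : ℕ) : ℕ :=
  qm (x / 60) ((cqTab.getD (x % 60) []).getD (y / 60) 32) * 60 + hm' (x % 60) (y % 60)

/-- power in coordinates -/
def cpw (x : ℕ) : ℕ → ℕ
  | 0 => 0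
  | n + 1 => cm x (cpw x n)

/-- packed element of the centraliser -/
def cPk (x : ℕ) : List ℕ :=
  mul (qTbl.els.getD (x / 60) onePk) (hTbl.els.getD (x % 60) onePk)

/-- a packed matrix times a power of the scalar -/
def scPk (k : ℕ) (B : List ℕ) : List ℕ := mul (powPk (genPk.getD 0 onePk) k) B

/-- equality up to scalars -/
def eqS (A B : List ℕ) : Bool := (List.range 3).any fun k => Nat.beq (mKey A) (mKey (scPk k B))

/-- a word in packed matrices -/
def evB (L : List (List ℕ)) : List ℕ → List ℕ
  | [] => onePk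
  | i :: w => mul (L.getD i onePk) (evB L w)

/-- first generator of the centraliser -/
def xPk (j : ℕ) : List ℕ := cPk (xGen.getD j 0)

/-- second generator of the centraliser -/
def yPk (j : ℕ) : List ℕ := cPk (yGen.getD j 0)

/-- element of the centraliser of the second generator -/
def uC (j c : ℕ) : List ℕ :=
  mul (sConj.getD j onePk) (mul (cPk c) (sConjI.getD j onePk))

/-- third generator -/
def uPk (j : ℕ) : List ℕ := uC j (uIdx.getD j 0)

/-- witness of a conjugation to a standard element of order five -/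
def fiveW (c : ℕ) : ℕ × ℕ := (fiveWit.getD (c / 48) []).getD (c % 48) (0, 0)

/-- witness of a conjugation to a standard second generator -/
def yW (j y : ℕ) : ℕ := ((yWit.getD j []).getD (y / 48) []).getD (y % 48) 0

/-- predecessor data -/
def cP (c k : ℕ) : ℕ := ((cPar.getD (c / 48) []).getD (c % 48) []).getD k 0

theorem cq_check : (List.range 60).all (fun b => (List.range 32).all fun c =>
    Nat.blt ((cqTab.getD b []).getD c 32) 32 &&
      eqM (mul (hTbl.els.getD b onePk) (qTbl.els.getD c onePk))
        (mul (qTbl.els.getD ((cqTab.getD b []).getD c 32) onePk) (hTbl.els.getD b onePk))) = true := by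
  decide +kernel

theorem qh_zero : eqM (qTbl.els.getD 0 onePk) onePk = true ∧
    eqM (hTbl.els.getD 0 onePk) onePk = true ∧ eqM (cPk 60) tPk = true := by decide +kernel

theorem five_check : (List.range 1920).all (fun c =>
    !Nat.beq (cpw c 5) 0 || Nat.beq c 0 ||
      (Nat.blt (fiveW c).1 2 && Nat.blt (fiveW c).2 1920 &&
        Nat.beq (cm (fiveW c).2 (xGen.getD (fiveW c).1 0))
          (cm c (fiveW c).2))) = true := by decide +kernel

theorem gen_facts : (List.range 2).all (fun j => Nat.blt (xGen.getD j 0) 1920 &&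
    Nat.blt (yGen.getD j 0) 1920 && Nat.blt (uIdx.getD j 0) 1920 &&
    Nat.beq (cm (uIdx.getD j 0) (uIdx.getD j 0)) 0) = true := by decide +kernel

/-- relations satisfied by a second generator -/
def yRel (x y : ℕ) : Bool :=
  Nat.beq (cm y y) 0 && Nat.beq (cpw (cm x y) 12) 0 && !Nat.beq (cpw (cm x y) 6) 0 &&
    !Nat.beq (cpw (cm x y) 4) 0 && Nat.beq (cpw (cm (cm x x) y) 10) 0 &&
    !Nat.beq (cpw (cm (cm x x) y) 5) 0 && !Nat.beq (cpw (cm (cm x x) y) 2) 0 &&
    Nat.beq (cpw (cm x (cm y (cm (cpw x 4) y))) 5) 0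

theorem y_base : yRel (xGen.getD 0 0) (yGen.getD 0 0) = true ∧
    Nat.beq (cpw (xGen.getD 0 0) 5) 0 = true ∧ Nat.beq (xGen.getD 0 0) 0 = false := by
  decide +kernel

theorem y_check : (List.range 2).all (fun j => (List.range 1920).all fun y =>
    !yRel (xGen.getD j 0) y ||
      (Nat.blt (yW j y) 1920 &&
        Nat.beq (cm (yW j y) (xGen.getD j 0))
          (cm (xGen.getD j 0) (yW j y)) &&
        Nat.beq (cm (yW j y) (yGen.getD j 0))
          (cm y (yW j y)))) = true := by decide +kernel

theorem sConj_check : (List.range 2).all (fun j =>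
    eqM (evW (sConjW.getD j [])) (sConj.getD j onePk) &&
      eqM (mul (sConjI.getD j onePk) (sConj.getD j onePk)) onePk &&
      Nat.beq (sConjI.getD j onePk).length 9 &&
      eqS (mul (sConj.getD j onePk) tPk) (mul (yPk j) (sConj.getD j onePk))) = true := by
  decide +kernel

theorem u_base : eqS (powPk (mul (xPk 0) (uPk 0)) 5) onePk = true ∧
    eqS (powPk (mul (mul (xPk 0) (yPk 0)) (uPk 0)) 5) onePk = true ∧
    eqS (mul (uPk 0) (yPk 0)) (mul (yPk 0) (uPk 0)) = true := by decide +kernel

theorem u_check : (List.range 2).all (fun j => (List.range 1920).all fun c =>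
    !Nat.beq (cm c c) 0 || !eqS (powPk (mul (xPk j) (uC j c)) 5) onePk ||
      !eqS (powPk (mul (mul (xPk j) (yPk j)) (uC j c)) 5) onePk ||
      ((uWit.getD j []).any fun e => Nat.beq e.1 c && (Nat.beq e.2 0 || Nat.beq e.2 60) &&
        eqS (mul (cPk e.2) (uPk j)) (mul (uC j c) (cPk e.2)))) = true := by decide +kernel

theorem t_central : (List.range 2).all (fun j =>
    Nat.beq (cm 60 (xGen.getD j 0)) (cm (xGen.getD j 0) 60) &&
    Nat.beq (cm 60 (yGen.getD j 0)) (cm (yGen.getD j 0) 60)) = true := by decide +kernel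

theorem c_gen : (List.range 1920).all (fun c =>
    Nat.beq c 0 || (Nat.blt (cP c 1) 1920 && Nat.blt (cP (cP c 1) 2) (cP c 2) &&
      Nat.beq (cm ([xGen.getD 0 0, yGen.getD 0 0].getD (cP c 0) 0) (cP c 1)) c)) = true := by
  decide +kernel

theorem genWit_check : (List.range 6).all (fun i => Nat.blt (genWit.getD i ([], 0)).2 1920 &&
    eqS (mul (evB [xPk 0, yPk 0, uPk 0] (genWit.getD i ([], 0)).1)
      (cPk (genWit.getD i ([], 0)).2)) (genPk.getD (i + 1) onePk)) = true := by decide +kernel

/-- conjugate a packed vector -/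
def cjV (r : ℕ) : ℕ :=
  ((r &&& 511) ^^^ ((r >>> 9) &&& 511)) ||| (((r >>> 9) &&& 511) <<< 9)

theorem flip_check : eqM (mul flipPk flipPk) onePk = true ∧
    (List.range 7).all (fun i => eqM (mul (mul flipPk ((genPk.getD i onePk).map cjV)) flipPk)
      (evW (flipW.getD i []))) = true := by decide +kernel

end CfsgLib.JankoThree
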