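import Mathlib
import Cfsg.Agent.JankoThree.Involution
import Cfsg.Agent.JankoThree.OutCheck

/-! Coordinates in the centraliser of an involution of `J₃`. -/

set_option autoImplicit false

namespace CfsgLib.JankoThree

open Cfsg
open scoped Matrix

theorem qm_zero : qm 0 0 = 0 ∧ hm' 0 0 = 0 := by decide +kernel

theorem cPk_commute : (List.range 32).all (fun a => (List.range 60).all fun b =>
    eqM (cPk (60 * a + b))
      (mul (qTbl.els.getD a onePk) (hTbl.els.getD b onePk))) = true := by decide +kernel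

variable {F : Type*} [Field F] [Fintype F]

/-- the quotient map -/
abbrev proj (ω : F) : Spor.threeJ3 F ω →* Spor.J3 F ω :=
  QuotientGroup.mk' (Subgroup.center (Spor.threeJ3 F ω))

/-- a packed matrix represents an element of `J₃` -/
def JR (ω : F) (x : Spor.J3 F ω) (M : List ℕ) : Prop :=
  ∃ g : Spor.threeJ3 F ω, proj ω g = x ∧ Rep ω (g : GL Spor.F9 F) M

/-- coordinates of an element of the centraliser -/
def Co (ω : F) (x : Spor.J3 F ω) (c : ℕ) : Prop := c < 1920 ∧ JR ω x (cPk c)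

variable {ω : F} (hF : Fintype.card F = 4) (hω : ω ^ 2 + ω + 1 = 0)
include hF hω

theorem JR.one : JR ω (1 : Spor.J3 F ω) onePk := ⟨1, map_one _, Rep.one⟩

theorem JR.mul {x y : Spor.J3 F ω} {A B : List ℕ} (hx : JR ω x A) (hy : JR ω y B) :
    JR ω (x * y) (JankoThree.mul A B) := by
  obtain ⟨g, rfl, hg⟩ := hx
  obtain ⟨h, rfl, hh⟩ := hy
  exact ⟨g * h, map_mul _ _ _, hg.mul (two_eq_zero hF) hω hh⟩

theorem JR.pow {x : Spor.J3 F ω} {A : List ℕ} (hx : JR ω x A) (n : ℕ) :
    JR ω (x ^ n) (powPk A n) := by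
  obtain ⟨g, rfl, hg⟩ := hx
  refine ⟨g ^ n, map_pow _ _ _, ?_⟩
  rw [SubgroupClass.coe_pow]
  exact rep_powPk hF hω hg n

theorem JR.unique {x y : Spor.J3 F ω} {A : List ℕ} (hx : JR ω x A) (hy : JR ω y A) : x = y := by
  obtain ⟨g, rfl, hg⟩ := hx
  obtain ⟨h, rfl, hh⟩ := hy
  rw [Subtype.ext (hg.eq hh)]

theorem toMat_eq_of_mKey {A B : List ℕ} (hl : A.length = B.length) (h : mKey A = mKey B) :
    toMat ω A = toMat ω B := by
  have aux : ∀ (A B : List ℕ), A.length = B.length → mKey A = mKey B →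
      ∀ i, key (A.getD i 0) = key (B.getD i 0) := by
    intro A
    induction A with
    | nil => intro B hl _ i; cases B with | nil => rfl | cons b B => simp at hl
    | cons a A ih =>
      intro B hl h i
      cases B with
      | nil => simp at hl
      | cons b B =>
        simp only [mKey] at h
        have := key_lt a; have := key_lt b
        cases i with
        | zero => simp only [List.getD_cons_zero]; omega
        | succ i =>
          simp only [List.getD_cons_succ]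
          exact ih B (by simpa using hl) (by omega) i
  ext z w
  rw [toMat_apply, toMat_apply]
  have := congrArg (toVec ω) (aux A B hl h (ix w))
  rw [toVec_key, toVec_key] at this
  exact congrFun this z

theorem JR.eq_iff {x y : Spor.J3 F ω} {A B : List ℕ} (hx : JR ω x A) (hy : JR ω y B) :
    x = y ↔ eqS A B = true := by
  obtain ⟨g, rfl, hg⟩ := hx
  obtain ⟨h, rfl, hh⟩ := hy
  have hs : ∀ k, Rep ω (gE ω 0 ^ k * (h : GL Spor.F9 F)) (scPk k B) := fun k =>
    (rep_powPk hF hω (rep_gE hF hω 0) k).mul (two_eq_zero hF) hω hh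
  have hpow : ∀ k : ℕ, ((gE ω 0 ^ k : GL Spor.F9 F) : Matrix Spor.F9 Spor.F9 F) = ω ^ k • 1 :=
    fun k => by rw [Units.val_pow_eq_pow_val, gE_zero_eq hF hω, smul_pow, one_pow]
  constructor
  · intro e
    have hz : g * h⁻¹ ∈ Subgroup.center (Spor.threeJ3 F ω) :=
      (QuotientGroup.eq_one_iff _).1 (show proj ω (g * h⁻¹) = 1 by
        rw [map_mul, map_inv, e, mul_inv_cancel])
    obtain ⟨c, hc, ec⟩ := (mem_center_iff hF hω).1 hz
    have hk : ∃ k < 3, c = ω ^ k := by
      rcases eq_pow_omega hF hω hc with q | q | q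
      exacts [⟨0, by norm_num, by rw [q, pow_zero]⟩, ⟨1, by norm_num, by rw [q, pow_one]⟩,
        ⟨2, by norm_num, q⟩]
    obtain ⟨k, hk, rfl⟩ := hk
    have eg : (g : GL Spor.F9 F) = gE ω 0 ^ k * (h : GL Spor.F9 F) := by
      have : ((g * h⁻¹ : Spor.threeJ3 F ω) : GL Spor.F9 F) = gE ω 0 ^ k :=
        Units.ext (ec.trans (hpow k).symm)
      rw [← this, ← Subgroup.coe_mul, inv_mul_cancel_right]
    refine List.any_eq_true.2 ⟨k, List.mem_range.2 hk, ?_⟩
    have := hs k
    rw [← eg] at this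
    rw [mKey_eq hF hω hg.1 this.1 (hg.2.symm.trans this.2)]
    exact Nat.beq_refl _
  · intro e
    obtain ⟨k, hk, e'⟩ := List.any_eq_true.1 e
    have eg : (g : GL Spor.F9 F) = gE ω 0 ^ k * (h : GL Spor.F9 F) := Units.ext (by
      rw [hg.2, (hs k).2]
      exact toMat_eq_of_mKey hF hω (hg.1.trans (hs k).1.symm) (Nat.eq_of_beq_eq_true e'))
    have hc : (⟨gE ω 0, gE_mem hF hω 0⟩ : Spor.threeJ3 F ω) ^ k ∈
        Subgroup.center (Spor.threeJ3 F ω) :=
      (mem_center_iff hF hω).2 ⟨ω ^ k, pow_ne_zero k (omega_ne_zero hω), by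
        rw [SubgroupClass.coe_pow]; exact hpow k⟩
    have eg' : g = (⟨gE ω 0, gE_mem hF hω 0⟩ : Spor.threeJ3 F ω) ^ k * h :=
      Subtype.ext (by rw [Subgroup.coe_mul, SubgroupClass.coe_pow]; exact eg)
    rw [eg', map_mul, show proj ω _ = 1 from (QuotientGroup.eq_one_iff _).2 hc, one_mul]

theorem exists_qh {c : ℕ} (hc : c < 1920) : ∃ q h : Spor.threeJ3 F ω,
    (q : GL Spor.F9 F) ∈ tGrp ω qTbl ∧ (h : GL Spor.F9 F) ∈ tGrp ω hTbl ∧
      Rep ω (q : GL Spor.F9 F) (qTbl.els.getD (c / 60) onePk) ∧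
      Rep ω (h : GL Spor.F9 F) (hTbl.els.getD (c % 60) onePk) := by
  obtain ⟨q, hq, hqr⟩ := exists_rep hF hω qTbl_check.1 (i := c / 60)
    (by rw [qTbl_check.2.2.1]; omega)
  obtain ⟨h, hh, hhr⟩ := exists_rep hF hω hTbl_check.1 (i := c % 60)
    (by rw [hTbl_check.2.2.1]; omega)
  exact ⟨⟨q, tGrp_le hF hω _ hq⟩, ⟨h, tGrp_le hF hω _ hh⟩, hq, hh, hqr, hhr⟩

theorem Co.exists_elt {c : ℕ} (hc : c < 1920) : ∃ x : Spor.J3 F ω, Co ω x c := by
  obtain ⟨q, h, -, -, hq, hh⟩ := exists_qh hF hω hc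
  exact ⟨proj ω (q * h), hc, q * h, rfl, hq.mul (two_eq_zero hF) hω hh⟩

theorem Co.mk {x : Spor.J3 F ω} {c : ℕ} (h : Co ω x c) : ∃ q h : Spor.threeJ3 F ω,
    (q : GL Spor.F9 F) ∈ tGrp ω qTbl ∧ (h : GL Spor.F9 F) ∈ tGrp ω hTbl ∧
      Rep ω (q : GL Spor.F9 F) (qTbl.els.getD (c / 60) onePk) ∧
      Rep ω (h : GL Spor.F9 F) (hTbl.els.getD (c % 60) onePk) ∧ x = proj ω (q * h) := by
  obtain ⟨hc, g, rfl, hg⟩ := h
  obtain ⟨q, h, mq, mh, hq, hh⟩ := exists_qh hF hω hc
  refine ⟨q, h, mq, mh, hq, hh, ?_⟩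
  rw [show g = q * h from Subtype.ext (hg.eq (hq.mul (two_eq_zero hF) hω hh))]

theorem Co.inj {x : Spor.J3 F ω} {c d : ℕ} (hc : Co ω x c) (hd : Co ω x d) : c = d := by
  obtain ⟨q, h, mq, mh, hq, hh, e⟩ := Co.mk hF hω hc
  obtain ⟨q', h', mq', mh', hq', hh', e'⟩ := Co.mk hF hω hd
  have hz : (h' * h⁻¹)⁻¹ * (q'⁻¹ * q) ∈ Subgroup.center (Spor.threeJ3 F ω) := by
    refine (QuotientGroup.eq_one_iff _).1 (show proj ω _ = 1 from ?_)
    have e2 : proj ω q * proj ω h = proj ω q' * proj ω h' := by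
      rw [← map_mul, ← map_mul, ← e, ← e']
    simp only [map_mul, map_inv, mul_inv_rev, inv_inv]
    calc proj ω h * (proj ω h')⁻¹ * ((proj ω q')⁻¹ * proj ω q)
        = proj ω h * ((proj ω q' * proj ω h')⁻¹ * (proj ω q * proj ω h)) * (proj ω h)⁻¹ := by
          group
      _ = 1 := by rw [e2, inv_mul_cancel, mul_one, mul_inv_cancel]
  obtain ⟨e1, e2⟩ := apart hF hω (q := q'⁻¹ * q) (h := h' * h⁻¹)
    (mul_mem (inv_mem mq') mq) (mul_mem mh' (inv_mem mh)) hz
  rw [inv_mul_eq_one] at e1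
  rw [mul_inv_eq_one] at e2
  subst e1; subst e2
  have hlq := qTbl_check.2.2.1
  have hlh := hTbl_check.2.2.1
  have a1 := index_unique hF hω qTbl_check.1 (by rw [hlq]; have := hc.1; omega)
    (by rw [hlq]; have := hd.1; omega) hq hq'
  have a2 := index_unique hF hω hTbl_check.1 (by rw [hlh]; omega) (by rw [hlh]; omega) hh hh'
  omega

theorem qTbl_mul {a b : GL Spor.F9 F} {i j : ℕ} (hi : i < 32) (hj : j < 32)
    (ha : Rep ω a (qTbl.els.getD i onePk)) (hb : Rep ω b (qTbl.els.getD j onePk)) :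
    qm i j < 32 ∧ Rep ω (a * b) (qTbl.els.getD (qm i j) onePk) := by
  have hl := qTbl_check.2.2.1
  have h := List.all_eq_true.1 (List.all_eq_true.1 qTbl_check.2.1 i
    (List.mem_range.2 (hl ▸ hi))) j (List.mem_range.2 (hl ▸ hj))
  rw [hl, Bool.and_eq_true] at h
  exact ⟨Nat.le_of_ble_eq_true h.1, eqM_eq h.2 ▸ ha.mul (two_eq_zero hF) hω hb⟩

theorem hTbl_mul {a b : GL Spor.F9 F} {i j : ℕ} (hi : i < 60) (hj : j < 60)
    (ha : Rep ω a (hTbl.els.getD i onePk)) (hb : Rep ω b (hTbl.els.getD j onePk)) :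
    hm' i j < 60 ∧ Rep ω (a * b) (hTbl.els.getD (hm' i j) onePk) := by
  have hl := hTbl_check.2.2.1
  have h := List.all_eq_true.1 (List.all_eq_true.1 hTbl_check.2.1 i
    (List.mem_range.2 (hl ▸ hi))) j (List.mem_range.2 (hl ▸ hj))
  rw [hl, Bool.and_eq_true] at h
  exact ⟨Nat.le_of_ble_eq_true h.1, eqM_eq h.2 ▸ ha.mul (two_eq_zero hF) hω hb⟩

theorem Co.mul {x y : Spor.J3 F ω} {a b : ℕ} (hx : Co ω x a) (hy : Co ω y b) :
    Co ω (x * y) (cm a b) := by
  obtain ⟨q, h, -, -, hq, hh, rfl⟩ := Co.mk hF hω hx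
  obtain ⟨q', h', -, -, hq', hh', rfl⟩ := Co.mk hF hω hy
  have h2 := two_eq_zero hF
  have ha := hx.1; have hb := hy.1
  have hcq := List.all_eq_true.1 (List.all_eq_true.1 cq_check (a % 60)
    (List.mem_range.2 (by omega))) (b / 60) (List.mem_range.2 (by omega))
  rw [Bool.and_eq_true] at hcq
  generalize hv : (cqTab.getD (a % 60) []).getD (b / 60) 32 = v at hcq
  have hv' := Nat.le_of_ble_eq_true hcq.1
  have hlq := qTbl_check.2.2.1
  obtain ⟨p, hp, hpr⟩ := exists_rep hF hω qTbl_check.1 (i := v) (hlq.symm ▸ hv')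
  have e : (h : GL Spor.F9 F) * q' = p * h :=
    (hh.mul h2 hω hq').eq (by rw [eqM_eq hcq.2]; exact hpr.mul h2 hω hh)
  obtain ⟨c1, r1⟩ := qTbl_mul hF hω (by omega : a / 60 < 32) hv' hq hpr
  obtain ⟨c2, r2⟩ := hTbl_mul hF hω (Nat.mod_lt a (by norm_num)) (Nat.mod_lt b (by norm_num)) hh hh'
  have hcm : cm a b = qm (a / 60) v * 60 + hm' (a % 60) (b % 60) := by rw [cm, hv]
  refine ⟨by rw [hcm]; omega, q * h * (q' * h'), (map_mul _ _ _), ?_⟩
  have eg : ((q * h * (q' * h') : Spor.threeJ3 F ω) : GL Spor.F9 F) =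
      (q : GL Spor.F9 F) * p * ((h : GL Spor.F9 F) * h') := by
    simp only [Subgroup.coe_mul]
    calc (q : GL Spor.F9 F) * h * (q' * h') = q * ((h : GL Spor.F9 F) * q') * h' := by group
      _ = _ := by rw [e]; group
  rw [eg, cPk, show (cm a b) / 60 = qm (a / 60) v by rw [hcm]; omega,
    show (cm a b) % 60 = hm' (a % 60) (b % 60) by rw [hcm]; omega]
  exact r1.mul h2 hω r2

theorem Co.one : Co ω (1 : Spor.J3 F ω) 0 := by
  refine ⟨by norm_num, 1, map_one _, ?_⟩
  have h := (Rep.one (ω := ω) (F := F)).mul (two_eq_zero hF) hω Rep.one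
  rw [mul_one] at h
  show Rep ω (1 : GL Spor.F9 F) (cPk 0)
  rw [cPk, eqM_eq qh_zero.1, eqM_eq qh_zero.2.1]
  exact h

theorem Co.pow {x : Spor.J3 F ω} {c : ℕ} (hx : Co ω x c) : ∀ n, Co ω (x ^ n) (cpw c n)
  | 0 => by rw [pow_zero]; exact Co.one hF hω
  | n + 1 => by rw [pow_succ']; exact Co.mul hF hω hx (Co.pow hx n)

theorem Co.unique {x y : Spor.J3 F ω} {c : ℕ} (hx : Co ω x c) (hy : Co ω y c) : x = y :=
  JR.unique hF hω hx.2 hy.2

theorem Co.eq_iff {x y : Spor.J3 F ω} {a b : ℕ} (hx : Co ω x a) (hy : Co ω y b) :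
    x = y ↔ Nat.beq a b = true := by
  refine ⟨fun e => ?_, fun e => ?_⟩
  · subst e; rw [Co.inj hF hω hx hy]; exact Nat.beq_refl b
  · obtain rfl := Nat.eq_of_beq_eq_true e
    exact Co.unique hF hω hx hy

theorem Co.eq_one_iff {x : Spor.J3 F ω} {c : ℕ} (hx : Co ω x c) :
    x = 1 ↔ Nat.beq c 0 = true :=
  Co.eq_iff hF hω hx (Co.one hF hω)

theorem exists_T : ∃ T : Spor.J3 F ω, Co ω T 60 ∧ orderOf T = 2 ∧
    ∀ x : Spor.J3 F ω, x * T = T * x ↔ ∃ c, Co ω x c := by
  obtain ⟨t, htk, htr, ht1, -⟩ := exists_t hF hω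
  have hT : Co ω (proj ω t) 60 := ⟨by norm_num, t, rfl, by rw [eqM_eq qh_zero.2.2]; exact htr⟩
  have hT1 : proj ω t ≠ 1 := fun e => by
    have := Co.inj hF hω hT (e ▸ Co.one hF hω)
    norm_num at this
  refine ⟨proj ω t, hT, orderOf_eq_prime (by rw [← map_pow, pow_two, ht1, map_one]) hT1, ?_⟩
  set C := Subgroup.centralizer ({proj ω t} : Set (Spor.J3 F ω)) with hC
  have hin : ∀ x c, Co ω x c → x ∈ C := by
    intro x c hx
    obtain ⟨q, h, mq, mh, -, -, rfl⟩ := Co.mk hF hω hx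
    have hc : ∀ {T : GrpTbl}, checkGrp T = true → (∀ i < T.els.length,
        eqM (JankoThree.mul (T.els.getD i onePk) tPk) (JankoThree.mul tPk (T.els.getD i onePk)) =
          true) → ∀ g : Spor.threeJ3 F ω, (g : GL Spor.F9 F) ∈ tGrp ω T → proj ω g ∈ C := by
      intro T hT hc g hg
      obtain ⟨i, hi, hr⟩ := exists_index hF hω hT hg
      rw [hC, Subgroup.mem_centralizer_singleton_iff, ← map_mul, ← map_mul]
      congr 1
      exact Subtype.ext ((hr.mul (two_eq_zero hF) hω htr).eq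
        (by rw [eqM_eq (hc i hi)]; exact htr.mul (two_eq_zero hF) hω hr))
    rw [map_mul]
    exact mul_mem (hc qTbl_check.1 (fun i hi => List.all_eq_true.1 qh_commute.1 i
        (List.mem_range.2 (qTbl_check.2.2.1 ▸ hi))) q mq)
      (hc hTbl_check.1 (fun i hi => List.all_eq_true.1 qh_commute.2 i
        (List.mem_range.2 (hTbl_check.2.2.1 ▸ hi))) h mh)
  have hle : Nat.card C ≤ 1920 := by
    have hidx : 26163 ≤ C.index := by
      have hcomap : C.comap (proj ω) = Subgroup.centralizer ({t} : Set (Spor.threeJ3 F ω)) := by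
        ext g
        rw [Subgroup.mem_comap, hC, Subgroup.mem_centralizer_singleton_iff,
          Subgroup.mem_centralizer_singleton_iff]
        refine ⟨fun e => ?_, fun e => by rw [← map_mul, ← map_mul, e]⟩
        set c := g * t * g⁻¹ * t⁻¹ with hc
        have hcc : c ∈ Subgroup.center (Spor.threeJ3 F ω) :=
          (QuotientGroup.eq_one_iff _).1 (show proj ω c = 1 by
            simp only [hc, map_mul, map_inv]; rw [e]; group)
        have h3 : c ^ 3 = 1 := center_cube hF hω hcc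
        have hgt : g * t * g⁻¹ = c * t := by rw [hc]; group
        have h2 : c ^ 2 = 1 := by
          have : c * t * (c * t) = 1 := by
            rw [← hgt]
            calc g * t * g⁻¹ * (g * t * g⁻¹) = g * (t * t) * g⁻¹ := by group
              _ = 1 := by rw [ht1, mul_one, mul_inv_cancel]
          calc c ^ 2 = c * c * (t * t) := by rw [ht1, mul_one, pow_two]
            _ = c * (c * t) * t := by simp only [mul_assoc]
            _ = c * (t * c) * t := by rw [Subgroup.mem_center_iff.1 hcc t]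
            _ = c * t * (c * t) := by simp only [mul_assoc]
            _ = 1 := this
        have hc1 : c = 1 := by
          calc c = c ^ 3 * (c ^ 2)⁻¹ := by group
            _ = 1 := by rw [h3, h2, inv_one, mul_one]
        rw [hc1, one_mul, mul_inv_eq_iff_eq_mul] at hgt
        exact hgt
      rw [← Subgroup.index_comap_of_surjective C (QuotientGroup.mk'_surjective _), hcomap]
      exact index_centralizer_ge hF hω htk htr
    have h := C.card_mul_index
    rw [card_J3 hF hω] at h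
    nlinarith
  have hel : ∀ c : Fin 1920, ∃ x : Spor.J3 F ω, Co ω x c := fun c => Co.exists_elt hF hω c.2
  choose el hel using hel
  have hinj : Function.Injective (fun c : Fin 1920 => (⟨el c, hin _ _ (hel c)⟩ : C)) := by
    intro a b e
    have e' : el a = el b := congrArg Subtype.val e
    exact Fin.ext (Co.inj hF hω (hel a) (e'.symm ▸ hel b))
  have hsur := (hinj.bijective_of_nat_card_le (by rw [Nat.card_fin]; exact hle)).2
  intro x
  refine ⟨fun hx => ?_, fun ⟨c, hc⟩ => ?_⟩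
  · obtain ⟨c, hc⟩ := hsur ⟨x, by rw [hC, Subgroup.mem_centralizer_singleton_iff]; exact hx⟩
    have e' : el c = x := congrArg Subtype.val hc
    exact ⟨c, e' ▸ hel c⟩
  · have := hin x c hc
    rw [hC, Subgroup.mem_centralizer_singleton_iff] at this
    exact this

end CfsgLib.JankoThree
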