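import Mathlib
import Cfsg.Agent.JankoThree.Simple
import Cfsg.Agent.JankoThree.OutCheck
import Cfsg.Prelude.Def_KGroupFacts

/-! An outer automorphism of `J₃`. -/

set_option autoImplicit false

namespace CfsgLib.JankoThree

open Cfsg
open scoped Matrix

theorem testBit_cjV_low (r j : ℕ) (hj : j < 9) :
    (cjV r).testBit j = (r.testBit j ^^ r.testBit (j + 9)) := by
  rw [cjV, Nat.testBit_or, Nat.testBit_xor, Nat.testBit_and, Nat.testBit_and,
    Nat.testBit_shiftRight, Nat.testBit_shiftLeft, testBit_511, decide_eq_true hj,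
    decide_eq_false (Nat.not_le.2 hj), Bool.and_true, Bool.and_true, Bool.false_and,
    Bool.or_false, Nat.add_comm 9 j]

theorem testBit_cjV_high (r j : ℕ) (hj : j < 9) :
    (cjV r).testBit (j + 9) = r.testBit (j + 9) := by
  rw [cjV, Nat.testBit_or, Nat.testBit_xor, Nat.testBit_and, Nat.testBit_and,
    Nat.testBit_shiftLeft, Nat.testBit_and, Nat.testBit_shiftRight, Nat.testBit_shiftRight,
    testBit_511, testBit_511, decide_eq_false (by omega : ¬ j + 9 < 9),
    decide_eq_true (by omega : 9 ≤ j + 9), Bool.true_and, Nat.add_sub_cancel,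
    decide_eq_true hj, Bool.and_true, Nat.add_comm 9 j]
  simp

variable {F : Type*} [Field F] [Fintype F] {ω : F}
variable (hF : Fintype.card F = 4) (hω : ω ^ 2 + ω + 1 = 0)
include hF hω

theorem exists_conjugation : ∃ σ : F →+* F, Function.Injective σ ∧ σ ω = ω ^ 2 := by
  have h2 := two_eq_zero hF
  let σ : F →+* F :=
    { toFun := fun x => x ^ 2
      map_one' := one_pow 2
      map_mul' := fun x y => mul_pow x y 2
      map_zero' := zero_pow two_ne_zero
      map_add' := fun x y => by linear_combination x * y * h2 }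
  exact ⟨σ, σ.injective, rfl⟩

theorem map_toMat {σ : F →+* F} (hσ : σ ω = ω ^ 2) {M : List ℕ} (hM : M.length = 9) :
    (toMat ω M).map σ = toMat ω (M.map cjV) := by
  have h2 := two_eq_zero hF
  ext z w
  have hw : ix w < M.length := hM ▸ ix_lt w
  rw [Matrix.map_apply, toMat_apply, toMat_apply, List.getD_eq_getElem _ _ hw,
    List.getD_eq_getElem _ _ (by simpa using hw), List.getElem_map, el, el,
    testBit_cjV_low _ _ (ix_lt z), testBit_cjV_high _ _ (ix_lt z)]
  have hsq := omega_sq h2 hω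
  cases (M[ix w]).testBit (ix z) <;> cases (M[ix w]).testBit (ix z + 9) <;>
    simp [phi2, hσ, hsq]
  linear_combination h2

/-- an automorphism of `3·J₃` inverting the centre -/
theorem exists_flip : ∃ e : Spor.threeJ3 F ω ≃* Spor.threeJ3 F ω,
    (e ⟨gE ω 0, gE_mem hF hω 0⟩ : GL Spor.F9 F) = gE ω 0 ^ 2 := by
  classical
  obtain ⟨σ, hσi, hσ⟩ := exists_conjugation hF hω
  have h2 := two_eq_zero hF
  have hP : toMat ω flipPk * toMat ω flipPk = 1 := by
    rw [← toMat_mul h2 hω (show flipPk.length = 9 from rfl) (show flipPk.length = 9 from rfl),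
      eqM_eq flip_check.1, toMat_onePk]
  let P : GL Spor.F9 F := ⟨toMat ω flipPk, toMat ω flipPk, hP, hP⟩
  have hPr : Rep ω P flipPk := ⟨rfl, rfl⟩
  have hPinv : P⁻¹ = P := Units.ext rfl
  let τ : GL Spor.F9 F →* GL Spor.F9 F :=
    (MulAut.conj P).toMonoidHom.comp (Matrix.GeneralLinearGroup.map σ)
  have hτ : ∀ g, τ g = P * Matrix.GeneralLinearGroup.map σ g * P := fun g => by
    show P * _ * P⁻¹ = _
    rw [hPinv]
  have hmap : Function.Injective (Matrix.GeneralLinearGroup.map (n := Spor.F9) σ) := by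
    intro a b h
    refine Units.ext (Matrix.ext fun i j => hσi ?_)
    exact congrFun (congrFun (congrArg (fun x : GL Spor.F9 F =>
      (x : Matrix Spor.F9 Spor.F9 F)) h) i) j
  have hinj : Function.Injective τ := (MulAut.conj P).injective.comp hmap
  have hgen : ∀ i < 7, τ (gE ω i) ∈ Spor.threeJ3 F ω := by
    intro i hi
    have h := List.all_eq_true.1 flip_check.2 i (List.mem_range.2 hi)
    have hr : Rep ω (Matrix.GeneralLinearGroup.map σ (gE ω i))
        ((genPk.getD i onePk).map cjV) := by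
      refine ⟨by rw [List.length_map]; exact genPk_length i, ?_⟩
      rw [← map_toMat hF hω hσ (genPk_length i), ← (rep_gE hF hω i).2]
      rfl
    rw [hτ, ((hPr.mul h2 hω hr).mul h2 hω hPr).eq (h := gW ω (flipW.getD i []))
      (by rw [eqM_eq h]; exact rep_gW hF hω _)]
    exact gW_mem hF hω _
  have hle : (Spor.threeJ3 F ω).map τ ≤ Spor.threeJ3 F ω := by
    rw [Subgroup.map_le_iff_le_comap]
    conv_lhs => rw [threeJ3_eq_closure hF hω]
    exact (Subgroup.closure_le _).2 (by rintro _ ⟨i, rfl⟩; exact hgen i i.2)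
  have heq : (Spor.threeJ3 F ω).map τ = Spor.threeJ3 F ω :=
    Subgroup.eq_of_le_of_card_ge hle
      (Nat.card_congr (Subgroup.equivMapOfInjective _ τ hinj).toEquiv).le
  refine ⟨(Subgroup.equivMapOfInjective _ τ hinj).trans (MulEquiv.subgroupCongr heq), ?_⟩
  show τ (gE ω 0) = gE ω 0 ^ 2
  rw [hτ]
  refine Units.ext ?_
  rw [Units.val_mul, Units.val_mul, Units.val_pow_eq_pow_val, gE_zero_eq hF hω, smul_pow,
    one_pow]
  rw [show ((Matrix.GeneralLinearGroup.map σ (gE ω 0) : GL Spor.F9 F) :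
      Matrix Spor.F9 Spor.F9 F) = ω ^ 2 • 1 by
    show ((gE ω 0 : GL Spor.F9 F) : Matrix Spor.F9 Spor.F9 F).map σ = _
    rw [gE_zero_eq hF hω]
    ext i j
    by_cases h : i = j <;> simp [h, hσ]]
  rw [Matrix.mul_smul, Matrix.smul_mul, mul_one]
  exact congrArg (ω ^ 2 • ·) hP

theorem exists_outer : ∃ φ : MulAut (Spor.J3 F ω), φ ∉ Cfsg.Inn (Spor.J3 F ω) := by
  obtain ⟨e, he⟩ := exists_flip hF hω
  set Z := Subgroup.center (Spor.threeJ3 F ω) with hZ
  have hmap : Z.map (e : Spor.threeJ3 F ω →* Spor.threeJ3 F ω) = Z :=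
    Subgroup.characteristic_iff_map_eq.1 inferInstance e
  refine ⟨QuotientGroup.congr Z Z e hmap, ?_⟩
  rintro ⟨a, ha⟩
  obtain ⟨a, rfl⟩ := QuotientGroup.mk'_surjective Z a
  have hc : ∀ g, (a * g * a⁻¹)⁻¹ * e g ∈ Z := by
    intro g
    rw [← QuotientGroup.eq]
    show QuotientGroup.mk' Z (a * g * a⁻¹) = QuotientGroup.mk' Z (e g)
    rw [map_mul, map_mul, map_inv]
    exact DFunLike.congr_fun ha (QuotientGroup.mk' Z g)
  let c : Spor.threeJ3 F ω →* Z :=
    MonoidHom.mk' (fun g => ⟨(a * g * a⁻¹)⁻¹ * e g, hc g⟩) fun g h => Subtype.ext (by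
      show (a * (g * h) * a⁻¹)⁻¹ * e (g * h) = (a * g * a⁻¹)⁻¹ * e g * ((a * h * a⁻¹)⁻¹ * e h)
      have hg := Subgroup.mem_center_iff.1 (hc g) ((a * h * a⁻¹)⁻¹)
      rw [map_mul]
      calc (a * (g * h) * a⁻¹)⁻¹ * (e g * e h)
          = (a * h * a⁻¹)⁻¹ * ((a * g * a⁻¹)⁻¹ * e g) * e h := by group
        _ = (a * g * a⁻¹)⁻¹ * e g * (a * h * a⁻¹)⁻¹ * e h := by rw [hg]
        _ = _ := by rw [mul_assoc])
  have hker : c.ker = ⊤ := by
    refine normal_eq_top hF hω fun hle => ?_
    have h1 : Nat.card c.ker ≤ 3 :=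
      (Subgroup.card_le_of_le hle).trans (card_center hF hω).le
    have h2 : c.ker.index ≤ 3 := by
      rw [Subgroup.index_ker]
      exact (Subgroup.card_le_card_group _).trans (card_center hF hω).le
    have := c.ker.card_mul_index
    rw [card_threeJ3 hF hω] at this
    nlinarith
  set s : Spor.threeJ3 F ω := ⟨gE ω 0, gE_mem hF hω 0⟩ with hs
  have hsZ : s ∈ Z := (mem_center_iff hF hω).2 ⟨ω, omega_ne_zero hω, gE_zero_eq hF hω⟩
  have h0 : c s = 1 := by
    have : s ∈ c.ker := by rw [hker]; exact Subgroup.mem_top s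
    exact this
  have h : (a * s * a⁻¹)⁻¹ * e s = 1 := congrArg Subtype.val h0
  rw [Subgroup.mem_center_iff.1 hsZ a, mul_inv_cancel_right, inv_mul_eq_one] at h
  have h' : gE ω 0 = gE ω 0 ^ 2 := (congrArg Subtype.val h).trans he
  have h'' := congrFun (congrFun (congrArg (fun x : GL Spor.F9 F =>
    (x : Matrix Spor.F9 Spor.F9 F)) h') 0) 0
  simp only [Units.val_pow_eq_pow_val, gE_zero_eq hF hω, smul_pow, one_pow] at h''
  simp [Matrix.smul_apply, Matrix.one_apply] at h''
  exact omega_ne_one (two_eq_zero hF) hω (mul_left_cancel₀ (omega_ne_zero hω)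
    (by linear_combination -h''))

end CfsgLib.JankoThree
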