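import Mathlib
import Cfsg.Agent.JankoThree.SubgroupData

/-! A subgroup of order 24480 of `3·J₃`. -/

set_option autoImplicit false

namespace CfsgLib.JankoThree

open Cfsg
open scoped Matrix

attribute [local instance] lineAction

/-- product of subgroup generators, packed -/
def mEv : List ℕ → List ℕ
  | [] => onePk
  | i :: w => mul (mGenPk.getD i onePk) (mEv w)

/-- no element of the list occurs twice -/
def distinct : List ℕ → Bool
  | [] => true
  | a :: l => l.all (fun b => !Nat.beq a b) && distinct l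

theorem mGen_check : mGenPk.length = 5 ∧ mLNum ≤ 5 ∧ (List.range 5).all (fun g =>
    eqM (evW (mGenWords.getD g [])) (mGenPk.getD g onePk)) = true ∧
    (List.range mLNum).all (fun g =>
      Nat.beq (canon (mv (mGenPk.getD g onePk) mBase)) mBase) = true := by decide +kernel

theorem mL_check : mLPk.length = 180 ∧ eqM (mLPk.getD 0 onePk) onePk = true ∧
    (List.range 180).all (fun l => eqM (mEv (mLWords.getD l [])) (mLPk.getD l onePk) &&
      (mLWords.getD l []).all (fun i => Nat.blt i mLNum)) = true ∧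
    distinct (mLPk.map mKey) = true ∧
    (List.range mLNum).all (fun g => (List.range 180).all fun l =>
      Nat.blt ((mLTab.getD g []).getD l 180) 180 &&
        eqM (mul (mGenPk.getD g onePk) (mLPk.getD l onePk))
          (mLPk.getD ((mLTab.getD g []).getD l 180) onePk)) = true ∧
    mScalar < 180 ∧ eqM (mLPk.getD mScalar onePk) (genPk.getD 0 onePk) = true := by
  decide +kernel

theorem mC_check : mPts.length = 136 ∧ distinct mPts = true ∧
    eqM (mCPk.getD 0 onePk) onePk = true ∧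
    (List.range 136).all (fun p => eqM (mEv (mCWords.getD p [])) (mCPk.getD p onePk) &&
      Nat.beq (canon (mv (mCPk.getD p onePk) mBase)) (mPts.getD p 0)) = true ∧
    (List.range 5).all (fun g => (List.range 136).all fun p =>
      Nat.blt ((mTab.getD g []).getD p (136, 180)).1 136 &&
      Nat.blt ((mTab.getD g []).getD p (136, 180)).2 180 &&
        eqM (mul (mGenPk.getD g onePk) (mCPk.getD p onePk))
          (mul (mCPk.getD ((mTab.getD g []).getD p (136, 180)).1 onePk)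
            (mLPk.getD ((mTab.getD g []).getD p (136, 180)).2 onePk))) = true := by
  decide +kernel

theorem distinct_nodup : ∀ {l : List ℕ}, distinct l = true → l.Nodup
  | [], _ => List.nodup_nil
  | a :: l, h => by
    rw [distinct, Bool.and_eq_true] at h
    refine List.nodup_cons.2 ⟨fun hm => ?_, distinct_nodup h.2⟩
    have := List.all_eq_true.1 h.1 a hm
    simp at this

variable {F : Type*} [Field F] [Fintype F]

/-- a generator of the subgroup -/
noncomputable def mGen (ω : F) (g : ℕ) : GL Spor.F9 F := gW ω (mGenWords.getD g [])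

/-- a word in these generators -/
noncomputable def mWd (ω : F) (w : List ℕ) : GL Spor.F9 F := (w.map (mGen ω)).prod

/-- the subgroup -/
def mGrp (ω : F) : Subgroup (GL Spor.F9 F) :=
  Subgroup.closure (Set.range fun i : Fin 5 => mGen ω i)

/-- its point stabiliser -/
def mLGrp (ω : F) : Subgroup (GL Spor.F9 F) :=
  Subgroup.closure (Set.range fun i : Fin mLNum => mGen ω i)

variable {ω : F} (hF : Fintype.card F = 4) (hω : ω ^ 2 + ω + 1 = 0)
include hF hω

theorem rep_mGen (g : ℕ) : Rep ω (mGen ω g) (mGenPk.getD g onePk) := by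
  rcases Nat.lt_or_ge g 5 with hg | hg
  · exact eqM_eq (List.all_eq_true.1 mGen_check.2.2.1 g (List.mem_range.2 hg)) ▸ rep_gW hF hω _
  · have h : mGenWords.length = 5 := rfl
    rw [mGen, List.getD_eq_default _ _ (h ▸ hg), List.getD_eq_default _ _ (mGen_check.1 ▸ hg)]
    exact Rep.one

theorem rep_mWd : ∀ w, Rep ω (mWd ω w) (mEv w)
  | [] => Rep.one
  | i :: w => by
    rw [mWd, List.map_cons, List.prod_cons, mEv]
    exact (rep_mGen hF hω i).mul (two_eq_zero hF) hω (rep_mWd w)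

theorem mGrp_le : mGrp ω ≤ Spor.threeJ3 F ω :=
  (Subgroup.closure_le _).2 (by rintro _ ⟨i, rfl⟩; exact gW_mem hF hω _)

theorem mLGrp_le : mLGrp ω ≤ mGrp ω :=
  Subgroup.closure_mono (by
    rintro _ ⟨i, rfl⟩
    exact ⟨⟨i, lt_of_lt_of_le i.2 mGen_check.2.1⟩, rfl⟩)

theorem mWd_mem (w : List ℕ) : mWd ω w ∈ mGrp ω := by
  refine list_prod_mem fun x hx => ?_
  obtain ⟨i, -, rfl⟩ := List.mem_map.1 hx
  rcases Nat.lt_or_ge i 5 with hi | hi
  · exact Subgroup.subset_closure ⟨⟨i, hi⟩, rfl⟩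
  · rw [(rep_mGen hF hω i).eq
      (by rw [List.getD_eq_default _ _ (mGen_check.1 ▸ hi)]; exact Rep.one)]
    exact one_mem _

/-- an element of the point stabiliser -/
theorem mL_elt {l : ℕ} (hl : l < 180) : Rep ω (mWd ω (mLWords.getD l [])) (mLPk.getD l onePk) ∧
    mWd ω (mLWords.getD l []) ∈ mLGrp ω := by
  have h := List.all_eq_true.1 mL_check.2.2.1 l (List.mem_range.2 hl)
  rw [Bool.and_eq_true] at h
  refine ⟨eqM_eq h.1 ▸ rep_mWd hF hω _, list_prod_mem fun x hx => ?_⟩
  obtain ⟨i, hi, rfl⟩ := List.mem_map.1 hx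
  exact Subgroup.subset_closure ⟨⟨i, Nat.le_of_ble_eq_true (List.all_eq_true.1 h.2 i hi)⟩, rfl⟩

theorem mem_mLGrp {x : GL Spor.F9 F} :
    x ∈ mLGrp ω ↔ ∃ l < 180, x = mWd ω (mLWords.getD l []) := by
  refine ⟨fun hx => ?_, fun ⟨l, hl, e⟩ => e ▸ (mL_elt hF hω hl).2⟩
  refine closure_subset (S := {x | ∃ l < 180, x = mWd ω (mLWords.getD l [])}) ?_ ?_ hx
  · exact ⟨0, by norm_num, ((mL_elt hF hω (by norm_num)).1.eq
      (eqM_eq mL_check.2.1 ▸ Rep.one)).symm⟩
  · rintro _ ⟨g, rfl⟩ _ ⟨l, hl, rfl⟩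
    have h := List.all_eq_true.1
      (List.all_eq_true.1 mL_check.2.2.2.2.1 g (List.mem_range.2 g.2)) l (List.mem_range.2 hl)
    rw [Bool.and_eq_true] at h
    have hl' := Nat.le_of_ble_eq_true h.1
    exact ⟨_, hl', ((rep_mGen hF hω g).mul (two_eq_zero hF) hω (mL_elt hF hω hl).1).eq
      (eqM_eq h.2 ▸ (mL_elt hF hω hl').1)⟩

theorem mLGrp_fix {x : GL Spor.F9 F} (hx : x ∈ mLGrp ω) : x • ln ω mBase = ln ω mBase := by
  have : mLGrp ω ≤ MulAction.stabilizer (GL Spor.F9 F) (ln ω mBase) := by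
    refine (Subgroup.closure_le _).2 ?_
    rintro _ ⟨g, rfl⟩
    show mGen ω g • ln ω mBase = ln ω mBase
    rw [(rep_mGen hF hω g).smul_ln (two_eq_zero hF) hω, ← ln_canon hF hω,
      Nat.eq_of_beq_eq_true (List.all_eq_true.1 mGen_check.2.2.2 g (List.mem_range.2 g.2))]
  exact this hx

/-- a coset representative of the point stabiliser -/
theorem mC_elt {p : ℕ} (hp : p < 136) : Rep ω (mWd ω (mCWords.getD p [])) (mCPk.getD p onePk) ∧
    mWd ω (mCWords.getD p []) • ln ω mBase = ln ω (mPts.getD p 0) := by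
  have h := List.all_eq_true.1 mC_check.2.2.2.1 p (List.mem_range.2 hp)
  rw [Bool.and_eq_true] at h
  have hr : Rep ω (mWd ω (mCWords.getD p [])) (mCPk.getD p onePk) :=
    eqM_eq h.1 ▸ rep_mWd hF hω _
  refine ⟨hr, ?_⟩
  rw [hr.smul_ln (two_eq_zero hF) hω, ← ln_canon hF hω, Nat.eq_of_beq_eq_true h.2]

theorem mem_mGrp {x : GL Spor.F9 F} : x ∈ mGrp ω ↔ ∃ p < 136, ∃ l < 180,
    x = mWd ω (mCWords.getD p []) * mWd ω (mLWords.getD l []) := by
  refine ⟨fun hx => ?_, ?_⟩
  · refine closure_subset (S := {x | ∃ p < 136, ∃ l < 180,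
      x = mWd ω (mCWords.getD p []) * mWd ω (mLWords.getD l [])}) ?_ ?_ hx
    · refine ⟨0, by norm_num, 0, by norm_num, ?_⟩
      rw [(mC_elt hF hω (p := 0) (by norm_num)).1.eq (eqM_eq mC_check.2.2.1 ▸ Rep.one),
        (mL_elt hF hω (l := 0) (by norm_num)).1.eq (eqM_eq mL_check.2.1 ▸ Rep.one), one_mul]
    · rintro _ ⟨g, rfl⟩ _ ⟨p, hp, l, hl, rfl⟩
      have h := List.all_eq_true.1
        (List.all_eq_true.1 mC_check.2.2.2.2 g (List.mem_range.2 g.2)) p (List.mem_range.2 hp)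
      simp only [Bool.and_eq_true] at h
      obtain ⟨⟨h1, h2⟩, h3⟩ := h
      have hq := Nat.le_of_ble_eq_true h1
      have hm := Nat.le_of_ble_eq_true h2
      have h2' := two_eq_zero hF
      have e := ((rep_mGen hF hω g).mul h2' hω (mC_elt hF hω hp).1).eq
        (eqM_eq h3 ▸ (mC_elt hF hω hq).1.mul h2' hω (mL_elt hF hω hm).1)
      obtain ⟨m, hm', em⟩ := (mem_mLGrp hF hω).1
        (mul_mem (mL_elt hF hω hm).2 (mL_elt hF hω hl).2)
      exact ⟨_, hq, m, hm', by rw [← mul_assoc, e, mul_assoc, em]⟩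
  · rintro ⟨p, -, l, hl, rfl⟩
    exact mul_mem (mWd_mem hF hω _) (mLGrp_le hF hω (mL_elt hF hω hl).2)

theorem mScalar_mem : gE ω 0 ∈ mGrp ω := by
  rw [(rep_gE hF hω 0).eq (eqM_eq mL_check.2.2.2.2.2.2 ▸ (mL_elt hF hω mL_check.2.2.2.2.2.1).1)]
  exact mLGrp_le hF hω (mL_elt hF hω mL_check.2.2.2.2.2.1).2

theorem card_mGrp : Nat.card (mGrp ω) = 24480 := by
  refine (Nat.card_congr (Equiv.ofBijective
    (fun q : Fin 136 × Fin 180 =>
      (⟨mWd ω (mCWords.getD q.1 []) * mWd ω (mLWords.getD q.2 []),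
        (mem_mGrp hF hω).2 ⟨_, q.1.2, _, q.2.2, rfl⟩⟩ : mGrp ω)) ⟨?_, ?_⟩)).symm.trans (by simp)
  · rintro ⟨p, l⟩ ⟨q, m⟩ e
    have e' := congrArg Subtype.val e
    have hpq : p = q := by
      have h := congrArg (· • ln ω mBase) e'
      dsimp only at h
      rw [mul_smul, mul_smul, mLGrp_fix hF hω (mL_elt hF hω l.2).2,
        mLGrp_fix hF hω (mL_elt hF hω m.2).2, (mC_elt hF hω p.2).2, (mC_elt hF hω q.2).2] at h
      have hc := canon_eq_of_ln hF hω h
      have hcan : ∀ i < 136, canon (mPts.getD i 0) = mPts.getD i 0 := by decide +kernel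
      rw [hcan p p.2, hcan q q.2] at hc
      have hlen := mC_check.1
      rw [List.getD_eq_getElem _ _ (hlen.symm ▸ p.2 : (p : ℕ) < mPts.length),
        List.getD_eq_getElem _ _ (hlen.symm ▸ q.2 : (q : ℕ) < mPts.length)] at hc
      exact Fin.ext ((distinct_nodup mC_check.2.1).getElem_inj_iff.1 hc)
    subst hpq
    have el := mul_left_cancel e'
    have hk := mKey_eq hF hω (mL_elt hF hω l.2).1.1 (mL_elt hF hω m.2).1.1
      (by rw [← (mL_elt hF hω l.2).1.2, el, (mL_elt hF hω m.2).1.2])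
    have hlen := mL_check.1
    have hl' : (l : ℕ) < mLPk.length := hlen.symm ▸ l.2
    have hm' : (m : ℕ) < mLPk.length := hlen.symm ▸ m.2
    rw [List.getD_eq_getElem _ _ hl', List.getD_eq_getElem _ _ hm'] at hk
    have := (distinct_nodup mL_check.2.2.2.1).getElem_inj_iff (i := (l : ℕ)) (j := (m : ℕ))
      (hi := by simpa using hl') (hj := by simpa using hm')
    rw [List.getElem_map, List.getElem_map] at this
    exact Prod.ext rfl (Fin.ext (this.1 hk))
  · rintro ⟨x, hx⟩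
    obtain ⟨p, hp, l, hl, rfl⟩ := (mem_mGrp hF hω).1 hx
    exact ⟨(⟨p, hp⟩, ⟨l, hl⟩), rfl⟩

end CfsgLib.JankoThree
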