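import Mathlib
import Cfsg.Agent.JankoThree.Omega
import Cfsg.Agent.JankoThree.Subgroup

/-! Small subgroups of `3·J₃` given by packed tables. -/

set_option autoImplicit false

namespace CfsgLib.JankoThree

open Cfsg
open scoped Matrix

/-- a small subgroup given by generator words, elements, parents and a table -/
structure GrpTbl where
  gens : List (List ℕ)
  els : List (List ℕ)
  gi : List ℕ
  par : List (ℕ × ℕ)
  tab : List (List ℕ)

/-- the generators match, the list is closed and generated -/
def checkGrp (T : GrpTbl) : Bool :=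
  Nat.blt 0 T.els.length && eqM (T.els.getD 0 onePk) onePk &&
    (List.range T.gens.length).all (fun g =>
      eqM (evW (T.gens.getD g [])) (T.els.getD (T.gi.getD g 0) onePk) &&
      (List.range T.els.length).all (fun i =>
        Nat.blt ((T.tab.getD g []).getD i T.els.length) T.els.length &&
          eqM (mul (T.els.getD (T.gi.getD g 0) onePk) (T.els.getD i onePk))
            (T.els.getD ((T.tab.getD g []).getD i T.els.length) onePk))) &&
    (List.range T.els.length).all (fun i => Nat.beq i 0 ||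
      (Nat.blt (T.par.getD i (0, 0)).1 T.gens.length && Nat.blt (T.par.getD i (0, 0)).2 i &&
        eqM (mul (T.els.getD (T.gi.getD (T.par.getD i (0, 0)).1 0) onePk)
          (T.els.getD (T.par.getD i (0, 0)).2 onePk)) (T.els.getD i onePk))) &&
    distinct (T.els.map mKey)

/-- a full multiplication table -/
def checkMul (T : GrpTbl) (M : List (List ℕ)) : Bool :=
  (List.range T.els.length).all fun a => (List.range T.els.length).all fun b =>
    Nat.blt ((M.getD a []).getD b T.els.length) T.els.length &&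
      eqM (mul (T.els.getD a onePk) (T.els.getD b onePk))
        (T.els.getD ((M.getD a []).getD b T.els.length) onePk)

variable {F : Type*} [Field F] [Fintype F]

/-- the subgroup of a table -/
def tGrp (ω : F) (T : GrpTbl) : Subgroup (GL Spor.F9 F) :=
  Subgroup.closure (Set.range fun g : Fin T.gens.length => gW ω (T.gens.getD g []))

variable {ω : F} (hF : Fintype.card F = 4) (hω : ω ^ 2 + ω + 1 = 0)
include hF hω

theorem tGrp_le (T : GrpTbl) : tGrp ω T ≤ Spor.threeJ3 F ω :=
  (Subgroup.closure_le _).2 (by rintro _ ⟨i, rfl⟩; exact gW_mem hF hω _)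

variable {T : GrpTbl} (hT : checkGrp T = true)
include hT

theorem exists_rep {i : ℕ} (hi : i < T.els.length) :
    ∃ x ∈ tGrp ω T, Rep ω x (T.els.getD i onePk) := by
  simp only [checkGrp, Bool.and_eq_true] at hT
  obtain ⟨⟨⟨⟨-, h0⟩, hg⟩, hp⟩, -⟩ := hT
  induction i using Nat.strong_induction_on with
  | _ i ih =>
    rcases Nat.eq_zero_or_pos i with rfl | hpos
    · exact ⟨1, one_mem _, by rw [eqM_eq h0]; exact Rep.one⟩
    · have h := List.all_eq_true.1 hp i (List.mem_range.2 hi)
      simp only [Bool.or_eq_true, Bool.and_eq_true] at h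
      obtain ⟨⟨h1, h2⟩, h3⟩ := h.resolve_left fun e => by
        have := Nat.eq_of_beq_eq_true e; omega
      have b1 := Nat.le_of_ble_eq_true h1
      have b2 := Nat.le_of_ble_eq_true h2
      obtain ⟨y, hy, hr⟩ := ih _ b2 (Nat.lt_trans b2 hi)
      have hgi := List.all_eq_true.1 hg _ (List.mem_range.2 b1)
      rw [Bool.and_eq_true] at hgi
      refine ⟨gW ω (T.gens.getD (T.par.getD i (0, 0)).1 []) * y,
        mul_mem (Subgroup.subset_closure ⟨⟨_, b1⟩, rfl⟩) hy, ?_⟩
      rw [← eqM_eq h3, ← eqM_eq hgi.1]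
      exact (rep_gW hF hω _).mul (two_eq_zero hF) hω hr

theorem exists_index {x : GL Spor.F9 F} (hx : x ∈ tGrp ω T) :
    ∃ i < T.els.length, Rep ω x (T.els.getD i onePk) := by
  have hT' := hT
  simp only [checkGrp, Bool.and_eq_true] at hT'
  obtain ⟨⟨⟨⟨hl, h0⟩, hg⟩, -⟩, -⟩ := hT'
  refine closure_subset (S := {x | ∃ i < T.els.length, Rep ω x (T.els.getD i onePk)})
    ⟨0, Nat.le_of_ble_eq_true hl, by rw [eqM_eq h0]; exact Rep.one⟩ ?_ hx
  rintro _ ⟨g, rfl⟩ y ⟨i, hi, hr⟩
  have h := List.all_eq_true.1 hg g (List.mem_range.2 g.2)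
  rw [Bool.and_eq_true] at h
  have h' := List.all_eq_true.1 h.2 i (List.mem_range.2 hi)
  rw [Bool.and_eq_true] at h'
  refine ⟨_, Nat.le_of_ble_eq_true h'.1, ?_⟩
  rw [← eqM_eq h'.2, ← eqM_eq h.1]
  exact (rep_gW hF hω _).mul (two_eq_zero hF) hω hr

theorem index_unique {x : GL Spor.F9 F} {i j : ℕ} (hi : i < T.els.length) (hj : j < T.els.length)
    (h1 : Rep ω x (T.els.getD i onePk)) (h2 : Rep ω x (T.els.getD j onePk)) : i = j := by
  simp only [checkGrp, Bool.and_eq_true] at hT
  have hk := mKey_eq hF hω h1.1 h2.1 (h1.2.symm.trans h2.2)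
  have hnd := distinct_nodup hT.2
  have := hnd.getElem_inj_iff (i := i) (j := j) (hi := by simpa using hi) (hj := by simpa using hj)
  rw [List.getElem_map, List.getElem_map] at this
  rw [List.getD_eq_getElem _ _ hi, List.getD_eq_getElem _ _ hj] at hk
  exact this.1 hk

/-- numbering of the elements -/
theorem exists_equiv : ∃ e : tGrp ω T ≃ Fin T.els.length,
    ∀ x : tGrp ω T, Rep ω (x : GL Spor.F9 F) (T.els.getD (e x) onePk) := by
  classical
  have h := fun x : tGrp ω T => exists_index hF hω hT x.2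
  choose i hi hr using h
  refine ⟨Equiv.ofBijective (fun x => (⟨i x, hi x⟩ : Fin T.els.length)) ⟨?_, ?_⟩, hr⟩
  · intro x y e
    have hxy : i x = i y := congrArg Fin.val e
    exact Subtype.ext ((hr x).eq (by rw [hxy]; exact hr y))
  · intro k
    obtain ⟨x, hx, hr'⟩ := exists_rep hF hω hT k.2
    exact ⟨⟨x, hx⟩, Fin.ext (index_unique hF hω hT (hi _) k.2 (hr ⟨x, hx⟩) hr')⟩

theorem card_tGrp : Nat.card (tGrp ω T) = T.els.length := by
  obtain ⟨e, -⟩ := exists_equiv hF hω hT
  rw [Nat.card_congr e, Nat.card_fin]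

/-- numbering compatible with a multiplication table -/
theorem exists_model {M : List (List ℕ)} (hM : checkMul T M = true) :
    ∃ e : tGrp ω T ≃ Fin T.els.length,
      (∀ x : tGrp ω T, Rep ω (x : GL Spor.F9 F) (T.els.getD (e x) onePk)) ∧
      ∀ x y, (e (x * y) : ℕ) = (M.getD (e x) []).getD (e y) T.els.length := by
  obtain ⟨e, he⟩ := exists_equiv hF hω hT
  refine ⟨e, he, fun x y => ?_⟩
  have h := List.all_eq_true.1 (List.all_eq_true.1 hM (e x) (List.mem_range.2 (e x).2))
    (e y) (List.mem_range.2 (e y).2)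
  rw [Bool.and_eq_true] at h
  exact index_unique hF hω hT (e (x * y)).2 (Nat.le_of_ble_eq_true h.1) (he _)
    (eqM_eq h.2 ▸ (he x).mul (two_eq_zero hF) hω (he y))

end CfsgLib.JankoThree
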