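import Mathlib
import Cfsg.Agent.JankoThree.Coord
import Cfsg.Prelude.Def_KGroupFacts

/-! `J₃` has at most two outer automorphism classes. -/

set_option autoImplicit false

namespace CfsgLib.JankoThree

open Cfsg
open scoped Matrix

/-- relations of a second generator, in the group -/
def YR {G : Type*} [Group G] (X Y : G) : Prop :=
  Y * Y = 1 ∧ (X * Y) ^ 12 = 1 ∧ ¬(X * Y) ^ 6 = 1 ∧ ¬(X * Y) ^ 4 = 1 ∧ (X * X * Y) ^ 10 = 1 ∧
    ¬(X * X * Y) ^ 5 = 1 ∧ ¬(X * X * Y) ^ 2 = 1 ∧ (X * (Y * (X ^ 4 * Y))) ^ 5 = 1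

theorem YR.map_iff {G : Type*} [Group G] (φ : MulAut G) (X Y : G) : YR (φ X) (φ Y) ↔ YR X Y := by
  simp only [YR, ← map_mul, ← map_pow, map_eq_one_iff φ φ.injective]

variable {F : Type*} [Field F] [Fintype F] {ω : F}
variable (hF : Fintype.card F = 4) (hω : ω ^ 2 + ω + 1 = 0)
include hF hω

theorem yRel_iff {X Y : Spor.J3 F ω} {x y : ℕ} (hX : Co ω X x) (hY : Co ω Y y) :
    YR X Y ↔ yRel x y = true := by
  have hxy := Co.mul hF hω hX hY
  have hxxy := Co.mul hF hω (Co.mul hF hω hX hX) hY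
  have h8 := Co.mul hF hω hX (Co.mul hF hω hY (Co.mul hF hω (Co.pow hF hω hX 4) hY))
  simp only [YR, yRel, Bool.and_eq_true, Bool.not_eq_true', ← Bool.not_eq_true,
    Co.eq_one_iff hF hω (Co.mul hF hω hY hY), Co.eq_one_iff hF hω (Co.pow hF hω hxy 12),
    Co.eq_one_iff hF hω (Co.pow hF hω hxy 6), Co.eq_one_iff hF hω (Co.pow hF hω hxy 4),
    Co.eq_one_iff hF hω (Co.pow hF hω hxxy 10), Co.eq_one_iff hF hω (Co.pow hF hω hxxy 5),
    Co.eq_one_iff hF hω (Co.pow hF hω hxxy 2), Co.eq_one_iff hF hω (Co.pow hF hω h8 5)]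
  tauto

theorem gen_lt {j : ℕ} (hj : j < 2) : xGen.getD j 0 < 1920 ∧ yGen.getD j 0 < 1920 ∧
    uIdx.getD j 0 < 1920 ∧ Nat.beq (cm (uIdx.getD j 0) (uIdx.getD j 0)) 0 = true := by
  have h := List.all_eq_true.1 gen_facts j (List.mem_range.2 hj)
  simp only [Bool.and_eq_true] at h
  exact ⟨Nat.le_of_ble_eq_true h.1.1.1, Nat.le_of_ble_eq_true h.1.1.2,
    Nat.le_of_ble_eq_true h.1.2, h.2⟩

theorem sConj_elt {j : ℕ} (hj : j < 2) : ∃ G : Spor.J3 F ω, JR ω G (sConj.getD j onePk) ∧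
    JR ω G⁻¹ (sConjI.getD j onePk) ∧
      ∀ T Yj : Spor.J3 F ω, Co ω T 60 → Co ω Yj (yGen.getD j 0) → G * T = Yj * G := by
  have h := List.all_eq_true.1 sConj_check j (List.mem_range.2 hj)
  simp only [Bool.and_eq_true] at h
  obtain ⟨⟨⟨h1, h2⟩, h3⟩, h4⟩ := h
  have hr : Rep ω (gW ω (sConjW.getD j [])) (sConj.getD j onePk) :=
    eqM_eq h1 ▸ rep_gW hF hω _
  have hl : (sConjI.getD j onePk).length = 9 := Nat.eq_of_beq_eq_true h3
  have hri : Rep ω (gW ω (sConjW.getD j []))⁻¹ (sConjI.getD j onePk) := by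
    refine ⟨hl, ?_⟩
    have e := toMat_mul (F := F) (ω := ω) (two_eq_zero hF) hω hl hr.1
    rw [eqM_eq h2, toMat_onePk, ← hr.2] at e
    exact Units.inv_eq_of_mul_eq_one_left e.symm
  let g : Spor.threeJ3 F ω := ⟨gW ω (sConjW.getD j []), gW_mem hF hω _⟩
  have hG : JR ω (proj ω g) (sConj.getD j onePk) := ⟨g, rfl, hr⟩
  refine ⟨proj ω g, hG, ⟨g⁻¹, map_inv _ _, hri⟩, fun T Yj hT hY => ?_⟩
  refine (JR.eq_iff hF hω (JR.mul hF hω hG ?_) (JR.mul hF hω hY.2 hG)).2 h4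
  exact eqM_eq qh_zero.2.2 ▸ hT.2

/-- A triple of standard images. -/
theorem exists_canonical {T X Y U : Spor.J3 F ω} (hT : Co ω T 60) (hT2 : orderOf T = 2)
    (hTc : ∀ x : Spor.J3 F ω, x * T = T * x ↔ ∃ c, Co ω x c)
    (hX : Co ω X (xGen.getD 0 0)) (hY : Co ω Y (yGen.getD 0 0)) (hU : JR ω U (uPk 0))
    (hUU : U * U = 1) (φ : MulAut (Spor.J3 F ω)) :
    ∃ a : Spor.J3 F ω, ∃ j < 2, JR ω (a * φ X * a⁻¹) (xPk j) ∧ JR ω (a * φ Y * a⁻¹) (yPk j) ∧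
      JR ω (a * φ U * a⁻¹) (uPk j) := by
  obtain ⟨b, hb⟩ := isConj_iff.1 (isConj_J3 hF hω (x := φ T) (y := T)
    (by rw [MulEquiv.orderOf_eq]; exact hT2) hT2)
  obtain ⟨ψ, hψ⟩ : ∃ ψ : MulAut (Spor.J3 F ω), ψ = MulAut.conj b * φ := ⟨_, rfl⟩
  have hψa : ∀ z, ψ z = b * φ z * b⁻¹ := fun z => by rw [hψ]; rfl
  have hψT : ψ T = T := (hψa T).trans hb
  have hXT : X * T = T * X := (hTc X).2 ⟨_, hX⟩
  obtain ⟨c, hc⟩ := (hTc (ψ X)).1 (by
    have := congrArg ψ hXT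
    rwa [map_mul, map_mul, hψT] at this)
  have b5 := y_base.2.1
  have hX5 : X ^ 5 = 1 := (Co.eq_one_iff hF hω (Co.pow hF hω hX 5)).2 b5
  have h5 := List.all_eq_true.1 five_check c (List.mem_range.2 hc.1)
  simp only [Bool.or_eq_true, Bool.not_eq_true', Bool.and_eq_true] at h5
  obtain ⟨⟨hj, hg⟩, heq⟩ := h5.resolve_left fun e => by
    rcases e with e | e
    · rw [(Co.eq_one_iff hF hω (Co.pow hF hω hc 5)).1 (by rw [← map_pow, hX5, map_one])] at e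
      exact Bool.noConfusion e
    · have h1 : ψ X = 1 := (Co.eq_one_iff hF hω hc).2 e
      rw [← map_one ψ] at h1
      have := (Co.eq_one_iff hF hω hX).1 (ψ.injective h1)
      rw [y_base.2.2] at this
      exact Bool.noConfusion this
  generalize (fiveW c).1 = j at hj heq
  generalize (fiveW c).2 = g at hg heq
  have bj := Nat.le_of_ble_eq_true hj
  obtain ⟨G, hG⟩ := Co.exists_elt hF hω (c := g) (Nat.le_of_ble_eq_true hg)
  obtain ⟨Xj, hXj⟩ := Co.exists_elt hF hω (c := xGen.getD j 0) (gen_lt hF hω bj).1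
  obtain ⟨Yj, hYj⟩ := Co.exists_elt hF hω (c := yGen.getD j 0) (gen_lt hF hω bj).2.1
  have eG : G * Xj = ψ X * G := (Co.eq_iff hF hω (Co.mul hF hω hG hXj) (Co.mul hF hω hc hG)).2 heq
  obtain ⟨χ, hχ⟩ : ∃ χ : MulAut (Spor.J3 F ω), χ = MulAut.conj G⁻¹ * ψ := ⟨_, rfl⟩
  have hχa : ∀ z, χ z = G⁻¹ * ψ z * G := fun z => by
    rw [hχ]; show G⁻¹ * ψ z * G⁻¹⁻¹ = _; rw [inv_inv]
  have hχX : χ X = Xj := by rw [hχa, mul_assoc, ← eG, inv_mul_cancel_left]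
  have hGT : G * T = T * G := (hTc G).2 ⟨_, hG⟩
  have hχT : χ T = T := by rw [hχa, hψT, mul_assoc, ← hGT, inv_mul_cancel_left]
  obtain ⟨y, hy⟩ := (hTc (χ Y)).1 (by
    have := congrArg χ ((hTc Y).2 ⟨_, hY⟩)
    rwa [map_mul, map_mul, hχT] at this)
  have hrel : yRel (xGen.getD j 0) y = true := (yRel_iff hF hω hXj hy).1
    (hχX ▸ (YR.map_iff χ X Y).2 ((yRel_iff hF hω hX hY).2 y_base.1))
  have h6 := List.all_eq_true.1 (List.all_eq_true.1 y_check j (List.mem_range.2 bj)) y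
    (List.mem_range.2 hy.1)
  simp only [Bool.or_eq_true, Bool.not_eq_true', hrel, Bool.true_eq_false, false_or,
    Bool.and_eq_true] at h6
  obtain ⟨⟨hh, e1⟩, e2⟩ := h6
  generalize yW j y = h at hh e1 e2
  obtain ⟨H, hH⟩ := Co.exists_elt hF hω (c := h) (Nat.le_of_ble_eq_true hh)
  have eX : H * Xj = Xj * H :=
    (Co.eq_iff hF hω (Co.mul hF hω hH hXj) (Co.mul hF hω hXj hH)).2 e1
  have eY : H * Yj = χ Y * H :=
    (Co.eq_iff hF hω (Co.mul hF hω hH hYj) (Co.mul hF hω hy hH)).2 e2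
  obtain ⟨θ, hθ⟩ : ∃ θ : MulAut (Spor.J3 F ω), θ = MulAut.conj H⁻¹ * χ := ⟨_, rfl⟩
  have hθa : ∀ z, θ z = H⁻¹ * χ z * H := fun z => by
    rw [hθ]; show H⁻¹ * χ z * H⁻¹⁻¹ = _; rw [inv_inv]
  have hθX : θ X = Xj := by rw [hθa, hχX, mul_assoc, ← eX, inv_mul_cancel_left]
  have hθY : θ Y = Yj := by rw [hθa, mul_assoc, ← eY, inv_mul_cancel_left]
  obtain ⟨S, hS, hSi, hST⟩ := sConj_elt hF hω bj
  have eS := hST T Yj hT hYj
  obtain ⟨hub1, hub2, hub3⟩ := u_base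
  have hUY : θ U * Yj = Yj * θ U := by
    rw [← hθY, ← map_mul, ← map_mul]
    exact congrArg θ ((JR.eq_iff hF hω (JR.mul hF hω hU hY.2) (JR.mul hF hω hY.2 hU)).2 hub3)
  obtain ⟨d, hd⟩ := (hTc (S⁻¹ * θ U * S)).1 (by
    calc S⁻¹ * θ U * S * T = S⁻¹ * θ U * (S * T) := by group
      _ = S⁻¹ * (θ U * Yj) * S := by rw [eS]; group
      _ = S⁻¹ * (Yj * S) * (S⁻¹ * θ U * S) := by rw [hUY]; group
      _ = T * (S⁻¹ * θ U * S) := by rw [← eS, inv_mul_cancel_left])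
  have hθU : JR ω (θ U) (uC j d) := by
    rw [show θ U = S * ((S⁻¹ * θ U * S) * S⁻¹) by group]
    exact JR.mul hF hω hS (JR.mul hF hω hd.2 hSi)
  have hθU2 : θ U * θ U = 1 := by rw [← map_mul, hUU, map_one]
  have hdd : Nat.beq (cm d d) 0 = true := (Co.eq_one_iff hF hω (Co.mul hF hω hd hd)).1 (by
    calc S⁻¹ * θ U * S * (S⁻¹ * θ U * S) = S⁻¹ * (θ U * θ U) * S := by group
      _ = 1 := by rw [hθU2, mul_one, inv_mul_cancel])
  have f1 : eqS (powPk (mul (xPk j) (uC j d)) 5) onePk = true := by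
    refine (JR.eq_iff hF hω (JR.pow hF hω (JR.mul hF hω hXj.2 hθU) 5) (JR.one hF hω)).1 ?_
    rw [← hθX, ← map_mul, ← map_pow,
      (JR.eq_iff hF hω (JR.pow hF hω (JR.mul hF hω hX.2 hU) 5) (JR.one hF hω)).2 hub1, map_one]
  have f2 : eqS (powPk (mul (mul (xPk j) (yPk j)) (uC j d)) 5) onePk = true := by
    refine (JR.eq_iff hF hω (JR.pow hF hω (JR.mul hF hω (JR.mul hF hω hXj.2 hYj.2) hθU) 5)
      (JR.one hF hω)).1 ?_
    rw [← hθX, ← hθY, ← map_mul, ← map_mul, ← map_pow, (JR.eq_iff hF hω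
      (JR.pow hF hω (JR.mul hF hω (JR.mul hF hω hX.2 hY.2) hU) 5) (JR.one hF hω)).2 hub2, map_one]
  have h7 := List.all_eq_true.1 (List.all_eq_true.1 u_check j (List.mem_range.2 bj)) d
    (List.mem_range.2 hd.1)
  simp only [Bool.or_eq_true, Bool.not_eq_true', hdd, f1, f2, Bool.true_eq_false, false_or] at h7
  obtain ⟨e, -, he⟩ := List.any_eq_true.1 h7
  simp only [Bool.and_eq_true, Bool.or_eq_true] at he
  obtain ⟨⟨-, hz⟩, hzu⟩ := he
  obtain ⟨Uj0, hUj0⟩ := Co.exists_elt hF hω (c := uIdx.getD j 0) (gen_lt hF hω bj).2.2.1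
  have hUj : JR ω (S * (Uj0 * S⁻¹)) (uPk j) := JR.mul hF hω hS (JR.mul hF hω hUj0.2 hSi)
  obtain ⟨Z, hZ, eZX, eZY⟩ : ∃ Z : Spor.J3 F ω, Co ω Z e.2 ∧ Z * Xj = Xj * Z ∧ Z * Yj = Yj * Z := by
    rcases hz with q | q
    · exact ⟨1, Nat.eq_of_beq_eq_true q ▸ Co.one hF hω, by rw [one_mul, mul_one],
        by rw [one_mul, mul_one]⟩
    · have ht := List.all_eq_true.1 t_central j (List.mem_range.2 bj)
      rw [Bool.and_eq_true] at ht
      exact ⟨T, Nat.eq_of_beq_eq_true q ▸ hT,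
        (Co.eq_iff hF hω (Co.mul hF hω hT hXj) (Co.mul hF hω hXj hT)).2 ht.1,
        (Co.eq_iff hF hω (Co.mul hF hω hT hYj) (Co.mul hF hω hYj hT)).2 ht.2⟩
  have eZU : Z * (S * (Uj0 * S⁻¹)) = θ U * Z :=
    (JR.eq_iff hF hω (JR.mul hF hω hZ.2 hUj) (JR.mul hF hω hθU hZ.2)).2 hzu
  have hall : ∀ z, Z⁻¹ * H⁻¹ * G⁻¹ * b * φ z * (Z⁻¹ * H⁻¹ * G⁻¹ * b)⁻¹ = Z⁻¹ * θ z * Z := by
    intro z
    rw [hθa, hχa, hψa]
    group
  refine ⟨Z⁻¹ * H⁻¹ * G⁻¹ * b, j, bj, ?_, ?_, ?_⟩ <;> rw [hall]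
  · rw [hθX, mul_assoc, ← eZX, inv_mul_cancel_left]; exact hXj.2
  · rw [hθY, mul_assoc, ← eZY, inv_mul_cancel_left]; exact hYj.2
  · rw [mul_assoc, ← eZU, inv_mul_cancel_left]; exact hUj

theorem closure_eq_top {X Y U : Spor.J3 F ω} (hX : Co ω X (xGen.getD 0 0))
    (hY : Co ω Y (yGen.getD 0 0)) (hU : JR ω U (uPk 0)) :
    Subgroup.closure ({X, Y, U} : Set (Spor.J3 F ω)) = ⊤ := by
  set S := Subgroup.closure ({X, Y, U} : Set (Spor.J3 F ω)) with hS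
  have hXS : X ∈ S := Subgroup.subset_closure (by simp)
  have hYS : Y ∈ S := Subgroup.subset_closure (by simp)
  have hUS : U ∈ S := Subgroup.subset_closure (by simp)
  have hC : ∀ n c z, cP c 2 ≤ n → Co ω z c → z ∈ S := by
    intro n
    induction n using Nat.strong_induction_on with
    | _ n ih =>
      intro c z hn hz
      have h := List.all_eq_true.1 c_gen c (List.mem_range.2 hz.1)
      simp only [Bool.or_eq_true, Bool.and_eq_true] at h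
      rcases h with h | ⟨⟨h1, h2⟩, h3⟩
      · rw [(Co.eq_one_iff hF hω hz).2 h]; exact one_mem _
      · obtain ⟨p, hp⟩ := Co.exists_elt hF hω (c := cP c 1) (Nat.le_of_ble_eq_true h1)
        have hlt : cP (cP c 1) 2 < cP c 2 := Nat.le_of_ble_eq_true h2
        have hpS : p ∈ S := ih (cP (cP c 1) 2) (by omega) _ _ le_rfl hp
        have hk : ∃ g ∈ S, Co ω g ([xGen.getD 0 0, yGen.getD 0 0].getD (cP c 0) 0) := by
          rcases cP c 0 with _ | _ | k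
          · exact ⟨X, hXS, hX⟩
          · exact ⟨Y, hYS, hY⟩
          · exact ⟨1, one_mem _, Co.one hF hω⟩
        obtain ⟨g, hgS, hg⟩ := hk
        rw [← (Co.eq_iff hF hω (Co.mul hF hω hg hp) hz).2 h3]
        exact mul_mem hgS hpS
  have hw : ∀ w, ∃ z ∈ S, JR ω z (evB [xPk 0, yPk 0, uPk 0] w) := by
    intro w
    induction w with
    | nil => exact ⟨1, one_mem _, JR.one hF hω⟩
    | cons i w ih =>
      obtain ⟨z, hzS, hz⟩ := ih
      have hi : ∃ g ∈ S, JR ω g ([xPk 0, yPk 0, uPk 0].getD i onePk) := by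
        rcases i with _ | _ | _ | k
        · exact ⟨X, hXS, hX.2⟩
        · exact ⟨Y, hYS, hY.2⟩
        · exact ⟨U, hUS, hU⟩
        · exact ⟨1, one_mem _, JR.one hF hω⟩
      obtain ⟨g, hgS, hg⟩ := hi
      exact ⟨g * z, mul_mem hgS hzS, JR.mul hF hω hg hz⟩
  have hgen : ∀ i : Fin 7, proj ω ⟨gE ω i, gE_mem hF hω i⟩ ∈ S := by
    rintro ⟨_ | i, hi⟩
    · rw [show proj ω ⟨gE ω 0, gE_mem hF hω 0⟩ = 1 from (QuotientGroup.eq_one_iff _).2
        ((mem_center_iff hF hω).2 ⟨ω, omega_ne_zero hω, gE_zero_eq hF hω⟩)]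
      exact one_mem _
    · have h := List.all_eq_true.1 genWit_check i (List.mem_range.2 (by omega))
      rw [Bool.and_eq_true] at h
      obtain ⟨z, hzS, hz⟩ := hw (genWit.getD i ([], 0)).1
      obtain ⟨c, hc⟩ := Co.exists_elt hF hω (c := (genWit.getD i ([], 0)).2)
        (Nat.le_of_ble_eq_true h.1)
      have hg : JR ω (proj ω ⟨gE ω (i + 1), gE_mem hF hω _⟩) (genPk.getD (i + 1) onePk) :=
        ⟨_, rfl, rep_gE hF hω _⟩
      rw [← (JR.eq_iff hF hω (JR.mul hF hω hz hc.2) hg).2 h.2]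
      exact mul_mem hzS (hC _ _ _ le_rfl hc)
  refine eq_top_iff.2 fun x _ => ?_
  obtain ⟨g, rfl⟩ := QuotientGroup.mk'_surjective _ x
  have hle : Spor.threeJ3 F ω ≤ (S.comap (proj ω)).map (Spor.threeJ3 F ω).subtype := by
    conv_lhs => rw [threeJ3_eq_closure hF hω]
    exact (Subgroup.closure_le _).2 (by rintro _ ⟨i, rfl⟩; exact ⟨_, hgen i, rfl⟩)
  obtain ⟨y, hy, e⟩ := hle g.2
  rw [← Subtype.ext (a1 := y) (a2 := g) e]
  exact hy

theorem card_out_le : Nat.card (Cfsg.Out (Spor.J3 F ω)) ≤ 2 := by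
  obtain ⟨T, hT, hT2, hTc⟩ := exists_T hF hω
  obtain ⟨X, hX⟩ := Co.exists_elt hF hω (c := xGen.getD 0 0) (gen_lt hF hω (by norm_num)).1
  obtain ⟨Y, hY⟩ := Co.exists_elt hF hω (c := yGen.getD 0 0) (gen_lt hF hω (by norm_num)).2.1
  obtain ⟨u, hu⟩ := Co.exists_elt hF hω (c := uIdx.getD 0 0) (gen_lt hF hω (by norm_num)).2.2.1
  obtain ⟨S, hS, hSi, -⟩ := sConj_elt hF hω (j := 0) (by norm_num)
  have hU : JR ω (S * (u * S⁻¹)) (uPk 0) := JR.mul hF hω hS (JR.mul hF hω hu.2 hSi)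
  have hUU : S * (u * S⁻¹) * (S * (u * S⁻¹)) = 1 := by
    calc S * (u * S⁻¹) * (S * (u * S⁻¹)) = S * (u * u) * S⁻¹ := by group
      _ = 1 := by
        rw [(Co.eq_one_iff hF hω (Co.mul hF hω hu hu)).2 (gen_lt hF hω (by norm_num)).2.2.2,
          mul_one, mul_inv_cancel]
  have hcan := exists_canonical hF hω hT hT2 hTc hX hY hU hUU
  choose a j hj h1 h2 h3 using hcan
  have htop := closure_eq_top hF hω hX hY hU
  have key : ∀ φ ψ : MulAut (Spor.J3 F ω), j φ = j ψ → φ⁻¹ * ψ ∈ Cfsg.Inn (Spor.J3 F ω) := by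
    intro φ ψ e
    have e' : MulAut.conj (a φ) * φ = MulAut.conj (a ψ) * ψ := by
      have heq : (MulAut.conj (a φ) * φ).toMonoidHom = (MulAut.conj (a ψ) * ψ).toMonoidHom := by
        refine MonoidHom.eq_of_eqOn_dense htop ?_
        rintro z (rfl | rfl | rfl)
        · exact JR.unique hF hω (h1 φ) (e ▸ h1 ψ)
        · exact JR.unique hF hω (h2 φ) (e ▸ h2 ψ)
        · exact JR.unique hF hω (h3 φ) (e ▸ h3 ψ)
      exact MulEquiv.ext fun z => DFunLike.congr_fun heq z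
    have hψ : ψ = MulAut.conj ((a ψ)⁻¹ * a φ) * φ := by
      rw [map_mul, map_inv, mul_assoc, e', inv_mul_cancel_left]
    have := (innNormal (Spor.J3 F ω)).conj_mem _
      (⟨(a ψ)⁻¹ * a φ, rfl⟩ : MulAut.conj ((a ψ)⁻¹ * a φ) ∈ Cfsg.Inn (Spor.J3 F ω)) φ⁻¹
    rw [inv_inv] at this
    rwa [hψ, ← mul_assoc]
  refine (Nat.card_le_card_of_injective (fun q : Cfsg.Out (Spor.J3 F ω) =>
    (⟨j (Quotient.out q), hj _⟩ : Fin 2)) fun q r h => ?_).trans (Nat.card_fin 2).le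
  rw [← QuotientGroup.out_eq' q, ← QuotientGroup.out_eq' r]
  exact QuotientGroup.eq.2 (key _ _ (congrArg Fin.val h))

end CfsgLib.JankoThree
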